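import Cfsg.Agent.CharTwoS4.Central

/-!
# Maximal 2-locals of the odd residual
-/

set_option autoImplicit false

namespace CfsgLib.CharTwoS4

open Subgroup Equiv Cfsg

variable {G : Type*} [Group G] {P : Subgroup G}

/-- The four-group cut out by two homomorphisms. -/
def fourOf (π : P →* Perm (Fin 4)) (s : P →* Multiplicative (ZMod 2)) : Subgroup G where
  carrier := {g | ∃ h : g ∈ P, InK (π ⟨g, h⟩) ∧ s ⟨g, h⟩ = 1}
  mul_mem' := by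
    rintro a b ⟨ha, ha', ha''⟩ ⟨hb, hb', hb''⟩
    refine ⟨mul_mem ha hb, ?_, ?_⟩
    · rw [show (⟨a * b, mul_mem ha hb⟩ : P) = ⟨a, ha⟩ * ⟨b, hb⟩ from rfl, map_mul]
      exact (inK_mul _ _ ha' hb').1
    · rw [show (⟨a * b, mul_mem ha hb⟩ : P) = ⟨a, ha⟩ * ⟨b, hb⟩ from rfl, map_mul, ha'', hb'', one_mul]
  one_mem' := ⟨one_mem P, by
    rw [show (⟨1, one_mem P⟩ : P) = 1 from rfl, map_one, map_one]
    exact ⟨⟨one_mul 1, map_one _⟩, rfl⟩⟩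
  inv_mem' := by
    rintro a ⟨ha, ha', ha''⟩
    refine ⟨inv_mem ha, ?_, ?_⟩
    · rw [show (⟨a⁻¹, inv_mem ha⟩ : P) = ⟨a, ha⟩⁻¹ from rfl, map_inv]
      rwa [inv_eq_of_mul_eq_one_left ha'.1]
    · rw [show (⟨a⁻¹, inv_mem ha⟩ : P) = ⟨a, ha⟩⁻¹ from rfl, map_inv, ha'', inv_one]

/-- The structure cut out by two homomorphisms. -/
def sqOf (π : P →* Perm (Fin 4)) (s : P →* Multiplicative (ZMod 2))
    (hinj : ∀ p, π p = 1 → s p = 1 → p = 1) (hlift : ∀ σ, ∃ p, π p = σ ∧ s p = 1) :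
    Sq P (fourOf π s) where
  π := π
  surj σ := ⟨_, (hlift σ).choose_spec.1⟩
  ker_sq p hp := hinj _ (by rw [map_mul, hp, one_mul])
    (by rw [map_mul]; exact (by decide : ∀ a : Multiplicative (ZMod 2), a * a = 1) _)
  ker_central p q hp := by
    have h := hinj (p * q * (q * p)⁻¹) (by simp [hp]) (by
      rw [map_mul, map_inv, map_mul, map_mul, mul_comm (s q) (s p), mul_inv_cancel])
    exact mul_inv_eq_one.1 h
  le _ h := h.1
  normal := by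
    have key : ∀ p ∈ P, ∀ a ∈ fourOf π s, p * a * p⁻¹ ∈ fourOf π s := by
      rintro p hp a ⟨ha, ha', ha''⟩
      refine ⟨mul_mem (mul_mem hp ha) (inv_mem hp), ?_, ?_⟩
      · rw [show (⟨p * a * p⁻¹, mul_mem (mul_mem hp ha) (inv_mem hp)⟩ : P) =
          ⟨p, hp⟩ * ⟨a, ha⟩ * ⟨p, hp⟩⁻¹ from rfl, map_mul, map_mul, map_inv]
        exact inK_conj ha' _
      · rw [show (⟨p * a * p⁻¹, mul_mem (mul_mem hp ha) (inv_mem hp)⟩ : P) =
          ⟨p, hp⟩ * ⟨a, ha⟩ * ⟨p, hp⟩⁻¹ from rfl, map_mul, map_mul, map_inv, ha'', mul_one,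
          mul_inv_cancel]
    intro p hp
    refine mem_normalizer_iff.2 fun a => ⟨key p hp a, fun h => ?_⟩
    have := key p⁻¹ (inv_mem hp) _ h
    simpa [mul_assoc] using this
  map_mem v hv := hv.2.1
  lift σ hσ := by
    obtain ⟨p, hp, hs⟩ := hlift σ
    exact ⟨p, ⟨p.2, by rw [hp]; exact hσ, hs⟩, hp⟩
  inj v hv h := hinj v h hv.2.2

theorem relIndex_eq_three [Finite G] {T : Subgroup G} (hT : IsSylowTwoIn T P) {m : ℕ}
    (hc : Nat.card P = 3 * 2 ^ m) : T.relIndex P = 3 := by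
  haveI : Fact (Nat.Prime 2) := ⟨Nat.prime_two⟩
  obtain ⟨k, hk⟩ := IsPGroup.iff_card.1 hT.2.1
  have h := relIndex_mul_relIndex ⊥ T P bot_le hT.1
  rw [relIndex_bot_left, relIndex_bot_left, hk, hc] at h
  obtain ⟨j, hj⟩ := hT.2.2
  have h3 : T.relIndex P ∣ 3 :=
    (Nat.Coprime.pow_right m (Nat.coprime_two_right.2 hT.2.2)).dvd_of_dvd_mul_right (Dvd.intro_left _ h)
  refine ((Nat.dvd_prime Nat.prime_three).1 h3).resolve_left fun h1 => ?_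
  rw [h1, mul_one] at h
  have h' : 3 ∣ 2 := Nat.prime_three.dvd_of_dvd_pow (n := k) ⟨2 ^ m, h⟩
  omega

variable [Finite G]

/-- Two maximal 2-locals of type `S₄` give the conclusion. -/
theorem conclusion {T P₁ V₁ P₂ V₂ : Subgroup G} (d : Pair T P₁ V₁ P₂ V₂) {H : Subgroup G} [H.Normal]
    (h3 : ∀ g : G, Odd (orderOf g) → g ∈ H)
    (h₁ : ∀ p : P₁, d.F₁.π p = 1 → (p : G) ∈ H → p = 1)
    (h₂ : ∀ p : P₂, d.F₂.π p = 1 → (p : G) ∈ H → p = 1) :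
    ∃ M₁ M₂ : Subgroup H, M₁ ≠ M₂ ∧ IsMaximalTwoLocal M₁ ∧ IsMaximalTwoLocal M₂ ∧
      Nonempty (M₁ ≃* Perm (Fin 4)) ∧ Nonempty (M₂ ≃* Perm (Fin 4)) ∧ Nat.card ↥(M₁ ⊓ M₂) = 8 :=
  ⟨_, _, d.inf_ne h3, d.inf_maximal h3 h₁, d.symm.inf_maximal h3 h₂, d.inf_equiv h3 h₁,
    d.symm.inf_equiv h3 h₂, d.card_inf h3 h₁⟩

end CfsgLib.CharTwoS4
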