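import Cfsg.Agent.CharTwoS4.Pair
import Cfsg.Agent.Invol.ThompsonTransfer
import Cfsg.Agent.Invol.SylowKernel

/-!
# The centre of a maximal 2-local of type `S₄ × 2` misses the odd residual

If two maximal 2-locals of type `S₄ × 2` share a Sylow 2-subgroup `T` then a Sylow 2-subgroup of the
group has order at most 32 and transfer puts the central involutions outside every normal subgroup
generated by elements of odd order.
-/

set_option autoImplicit false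

namespace CfsgLib.CharTwoS4

open Subgroup Equiv Cfsg
open scoped CfsgLib.Functor

variable {G : Type*} [Group G] [Finite G]

theorem perm_central : ∀ σ : Perm (Fin 4), (∀ τ, σ * τ = τ * σ) → σ = 1 := by decide +kernel

/-- The additional data of a kernel of order two. -/
structure Ext {P V : Subgroup G} (F : Sq P V) (c : G) where
  memP : c ∈ P
  ne_one : c ≠ 1
  map_one : ∀ h : c ∈ P, F.π ⟨c, h⟩ = 1
  ker : ∀ p : P, F.π p = 1 → p = 1 ∨ (p : G) = c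
  split : ∃ s : P →* Multiplicative (ZMod 2), (∀ h : c ∈ P, s ⟨c, h⟩ ≠ 1) ∧
    ∀ v : P, (v : G) ∈ V → s v = 1

namespace Ext

variable {P V : Subgroup G} {F : Sq P V} {c : G} (x : Ext F c)

include x

theorem mem_A : c ∈ F.A := ⟨x.memP, by rw [x.map_one]; exact ⟨one_mul 1, _root_.map_one _⟩⟩

theorem sq : c * c = 1 := F.A_sq x.mem_A

theorem comm {p : G} (hp : p ∈ P) : c * p = p * c :=
  congrArg Subtype.val (F.ker_central ⟨c, x.memP⟩ ⟨p, hp⟩ (x.map_one _))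

theorem eq_of_central {q : G} (hq : q ∈ P) (h : ∀ p ∈ P, q * p = p * q) : q = 1 ∨ q = c := by
  rcases x.ker ⟨q, hq⟩ (perm_central _ fun τ => by
    obtain ⟨p, rfl⟩ := F.surj τ
    rw [← map_mul, ← map_mul]
    exact congrArg F.π (Subtype.ext (h p p.2))) with e | e
  · exact Or.inl (congrArg Subtype.val e)
  · exact Or.inr e

theorem not_mem_V : c ∉ V := fun h =>
  x.ne_one (congrArg Subtype.val (F.inj ⟨c, x.memP⟩ h (x.map_one _)))

theorem A_cases {a : G} (ha : a ∈ F.A) : ∃ v ∈ V, a = v ∨ a = v * c := by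
  obtain ⟨haP, ha'⟩ := ha
  obtain ⟨v, hv, hk⟩ := F.exists_lift_mem _ ha'
  refine ⟨v, hv, ?_⟩
  rcases x.ker _ hk with e | e
  · left
    have := congrArg Subtype.val e
    simp only [Subgroup.coe_mul, InvMemClass.coe_inv, OneMemClass.coe_one, inv_mul_eq_one] at this
    exact this.symm
  · right
    simp only [Subgroup.coe_mul, InvMemClass.coe_inv] at e
    rw [← e]; group

/-- Elements of `V` are the involutory commutators. -/
theorem mem_V_iff {v : G} :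
    v ∈ V ↔ v ∈ P ∧ v * v = 1 ∧ ∃ p ∈ P, ∃ q ∈ P, v = p * q * p⁻¹ * q⁻¹ := by
  constructor
  · intro hv
    refine ⟨F.le hv, F.V_sq hv, ?_⟩
    obtain ⟨σ, k', hσ, hk', he⟩ := inK_gen _ (F.map_mem ⟨v, F.le hv⟩ hv)
    obtain ⟨p, rfl⟩ := F.surj σ
    obtain ⟨u, hu, rfl⟩ := F.lift k' hk'
    have h2 := F.inj (⟨v, F.le hv⟩ * (p * u * p⁻¹ * u⁻¹)⁻¹)
      (mul_mem hv (inv_mem (mul_mem ((mem_normalizer_iff.1 (F.normal p.2) u).1 hu) (inv_mem hu)))) (by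
        simp only [map_mul, map_inv]; rw [he, mul_inv_cancel])
    exact ⟨p, p.2, u, u.2, congrArg Subtype.val (mul_inv_eq_one.1 h2)⟩
  · rintro ⟨hvP, hv2, p, hp, q, hq, rfl⟩
    obtain ⟨s, hsc, hsV⟩ := x.split
    set w : P := ⟨p, hp⟩ * ⟨q, hq⟩ * ⟨p, hp⟩⁻¹ * ⟨q, hq⟩⁻¹
    have hs1 : s w = 1 := by
      simp only [w, map_mul, map_inv]
      rw [mul_comm (s ⟨p, hp⟩) (s ⟨q, hq⟩)]
      group
    have hsg : Perm.sign (F.π w) = 1 := by
      simp only [w, map_mul, map_inv]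
      rw [mul_comm (Perm.sign (F.π ⟨p, hp⟩)) (Perm.sign (F.π ⟨q, hq⟩))]
      group
    have hw : InK (F.π w) := ⟨by
      rw [← map_mul, show w * w = 1 from Subtype.ext hv2, _root_.map_one], hsg⟩
    obtain ⟨v, hv, hk⟩ := F.exists_lift_mem w hw
    rcases x.ker _ hk with e | e
    · rw [inv_mul_eq_one] at e
      rw [e] at hv
      exact hv
    · refine absurd ?_ (hsc x.memP)
      rw [show (⟨c, x.memP⟩ : P) = v⁻¹ * w from Subtype.ext e.symm, map_mul, map_inv, hsV v hv, hs1]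
      group

theorem sq_mem_V {p : G} (hp : p ∈ P) (h : p * p * (p * p) = 1) : p * p ∈ V := by
  obtain ⟨s, hsc, hsV⟩ := x.split
  have hK : InK (F.π (⟨p, hp⟩ * ⟨p, hp⟩)) := by
    rw [map_mul]
    refine (inK_sq _ ?_).1
    have := congrArg F.π (show (⟨p, hp⟩ * ⟨p, hp⟩ * (⟨p, hp⟩ * ⟨p, hp⟩) : P) = 1 from Subtype.ext h)
    rw [map_mul, map_mul, _root_.map_one] at this
    rw [← this]; group
  obtain ⟨v, hv, hk⟩ := F.exists_lift_mem _ hK
  rcases x.ker _ hk with e | e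
  · rw [inv_mul_eq_one] at e
    have := e ▸ hv
    exact this
  · refine absurd ?_ (hsc x.memP)
    rw [show (⟨c, x.memP⟩ : P) = v⁻¹ * (⟨p, hp⟩ * ⟨p, hp⟩) from Subtype.ext e.symm, map_mul, map_inv,
      hsV v hv, map_mul, inv_one, one_mul]
    exact (by decide : ∀ a : Multiplicative (ZMod 2), a * a = 1) _

theorem card_A : Nat.card F.A = 8 := by
  have h := Nat.card_congr (Equiv.ofBijective
    (fun u : V × Bool => (⟨u.1 * (if u.2 then c else 1),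
      mul_mem (F.V_le_A u.1.2) (by split_ifs; exacts [x.mem_A, one_mem _])⟩ : F.A)) ⟨?_, ?_⟩)
  · rw [Nat.card_prod, F.card_V, Nat.card_eq_fintype_card, Fintype.card_bool] at h
    omega
  · rintro ⟨v, b⟩ ⟨v', b'⟩ h
    have h' : (v : G) * (if b then c else 1) = v' * (if b' then c else 1) := congrArg Subtype.val h
    cases b <;> cases b' <;> simp at h'
    · rw [h']
    · exact absurd (by rw [show c = (v' : G)⁻¹ * v by rw [h']; group]; exact mul_mem (inv_mem v'.2) v.2)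
        x.not_mem_V
    · exact absurd (by rw [show c = (v : G)⁻¹ * v' by rw [← h']; group]; exact mul_mem (inv_mem v.2) v'.2)
        x.not_mem_V
    · rw [h']
  · rintro ⟨a, ha⟩
    obtain ⟨v, hv, e | e⟩ := x.A_cases ha
    · exact ⟨(⟨v, hv⟩, false), Subtype.ext (by simp [e])⟩
    · exact ⟨(⟨v, hv⟩, true), Subtype.ext (by simp [e])⟩

end Ext

/-- The configuration. -/
structure Conf (T P₁ V₁ P₂ V₂ : Subgroup G) (c₁ c₂ : G) where
  d : Pair T P₁ V₁ P₂ V₂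
  e₁ : Ext d.F₁ c₁
  e₂ : Ext d.F₂ c₂

namespace Conf

variable {T P₁ V₁ P₂ V₂ : Subgroup G} {c₁ c₂ : G} (k : Conf T P₁ V₁ P₂ V₂ c₁ c₂)

/-- The configuration in the other order. -/
def symm : Conf T P₂ V₂ P₁ V₁ c₂ c₁ where
  d := k.d.symm
  e₁ := k.e₂
  e₂ := k.e₁

include k

theorem mem_of_comm {g : G} (h : g * c₁ = c₁ * g) : g ∈ P₁ := by
  have hp : IsPGroup 2 (zpowers c₁) := IsPGroup.of_card (n := 1) (by
    rw [Nat.card_zpowers, pow_one]
    exact orderOf_eq_prime (by rw [pow_two]; exact k.e₁.sq) k.e₁.ne_one)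
  have key : ∀ {u : G}, u * c₁ = c₁ * u → u ∈ normalizer (zpowers c₁ : Set G) := by
    intro u hu
    rw [mem_normalizer_iff_map_conj_eq, MonoidHom.map_zpowers]
    congr 1
    show u * c₁ * u⁻¹ = c₁
    rw [hu, mul_inv_cancel_right]
  rw [← normalizer_eq_of_max k.d.max₁ hp (zpowers_ne_bot.2 k.e₁.ne_one)
    fun p hp => key (k.e₁.comm hp).symm]
  exact key h

theorem c_ne : c₁ ≠ c₂ := fun e => k.d.ne (le_antisymm
  (fun p hp => k.symm.mem_of_comm (e ▸ (k.e₁.comm hp).symm))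
  (fun p hp => k.mem_of_comm (e ▸ (k.e₂.comm hp).symm)))

theorem A_le : k.d.F₁.A ≤ T := k.d.A_le_T

theorem c_mem_T : c₁ ∈ T := k.A_le k.e₁.mem_A

theorem exists_z : ∃ z ∈ V₁, z ∈ V₂ ∧ z ≠ 1 := by
  by_contra h
  push Not at h
  refine k.d.not_V_le fun b hb => k.d.F₁.mem_A_of_centralizes (k.d.syl₁.1 (k.d.symm.V_le_T hb))
    fun v hv => ?_
  have hbP : b ∈ P₁ := k.d.syl₁.1 (k.d.symm.V_le_T hb)
  have hvP : v ∈ P₂ := k.d.syl₂.1 (k.d.V_le_T hv)
  have h1 : b * v * b⁻¹ * v⁻¹ ∈ V₁ := mul_mem ((mem_normalizer_iff.1 (k.d.F₁.normal hbP) v).1 hv) (inv_mem hv)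
  have h2 : b * v * b⁻¹ * v⁻¹ ∈ V₂ := by
    rw [show b * v * b⁻¹ * v⁻¹ = b * (v * b⁻¹ * v⁻¹) by group]
    exact mul_mem hb ((mem_normalizer_iff.1 (k.d.F₂.normal hvP) _).1 (inv_mem hb))
  have h3 := h _ h1 h2
  calc b * v = b * v * b⁻¹ * v⁻¹ * (v * b) := by group
    _ = v * b := by rw [h3, one_mul]

/-- Elements of `A₁` commuting with an element of `T` outside `A₁`. -/
theorem fixed_cases {a q u : G} (haT : a ∈ T) (ha2 : a * a = 1) (haA : a ∉ k.d.F₁.A)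
    (hu : u ∈ V₁) (hu1 : u ≠ 1) (hau : a * u = u * a) (hq : q ∈ k.d.F₁.A) (haq : a * q = q * a) :
    q = 1 ∨ q = c₁ ∨ q = u ∨ q = u * c₁ := by
  obtain ⟨hqP, hq'⟩ := id hq
  have haP := k.d.syl₁.1 haT
  have huP := k.d.F₁.le hu
  rcases inK_fixed (k.d.F₁.π ⟨a, haP⟩) (k.d.F₁.π ⟨q, hqP⟩) (k.d.F₁.π ⟨u, huP⟩)
      ⟨hq', k.d.F₁.map_mem _ hu, fun h => hu1 (congrArg Subtype.val (k.d.F₁.inj _ hu h)),
        fun h => haA ⟨haP, h⟩,
        by rw [← map_mul, show (⟨a, haP⟩ * ⟨a, haP⟩ : P₁) = 1 from Subtype.ext ha2, map_one],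
        by rw [← map_mul, ← map_mul]; exact congrArg _ (Subtype.ext haq),
        by rw [← map_mul, ← map_mul]; exact congrArg _ (Subtype.ext hau)⟩ with h | h
  · rcases k.e₁.ker _ h with e | e
    · exact Or.inl (congrArg Subtype.val e)
    · exact Or.inr (Or.inl e)
  · rcases k.e₁.ker ((⟨u, huP⟩ : P₁)⁻¹ * ⟨q, hqP⟩) (by rw [map_mul, map_inv, h, inv_mul_cancel]) with e | e
    · refine Or.inr (Or.inr (Or.inl ?_))
      exact (congrArg Subtype.val (inv_mul_eq_one.1 e)).symm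
    · refine Or.inr (Or.inr (Or.inr ?_))
      simp only [Subgroup.coe_mul, InvMemClass.coe_inv] at e
      rw [← e]; group

variable {z : G} (hz₁ : z ∈ V₁) (hz₂ : z ∈ V₂) (hz : z ≠ 1)

include hz₁ hz₂ hz

theorem inf_A_cases {q : G} (h₁ : q ∈ k.d.F₁.A) (h₂ : q ∈ k.d.F₂.A) :
    q = 1 ∨ q = c₁ ∨ q = z ∨ q = z * c₁ := by
  obtain ⟨w, hw, hwT, hwA⟩ := k.d.exists_w
  exact k.fixed_cases hwT (k.d.F₂.V_sq hw) hwA hz₁ hz
    (k.d.F₂.A_comm (k.d.F₂.V_le_A hw) (k.d.F₂.V_le_A hz₂)) h₁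
    (k.d.F₂.A_comm (k.d.F₂.V_le_A hw) h₂)

theorem c_eq : c₂ = z * c₁ := by
  have h1 : c₂ ∈ k.d.F₁.A := k.d.F₁.mem_A_of_centralizes (k.d.syl₁.1 k.symm.c_mem_T)
    fun v hv => k.e₂.comm (k.d.syl₂.1 (k.d.V_le_T hv))
  rcases k.inf_A_cases hz₁ hz₂ hz h1 k.e₂.mem_A with e | e | e | e
  · exact absurd e k.e₂.ne_one
  · exact absurd e.symm k.c_ne
  · exact absurd (e ▸ hz₂) k.e₂.not_mem_V
  · exact e

theorem z_eq : z = c₂ * c₁ := by
  rw [k.c_eq hz₁ hz₂ hz, mul_assoc, k.e₁.sq, mul_one]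

theorem z_sq : z * z = 1 := k.d.F₁.V_sq hz₁

theorem c_mem_A₂ : c₁ ∈ k.d.F₂.A := by
  have : c₁ = z * c₂ := by rw [k.c_eq hz₁ hz₂ hz, ← mul_assoc, k.z_sq hz₁ hz₂ hz, one_mul]
  have h := mul_mem (k.d.F₂.V_le_A hz₂) k.e₂.mem_A
  rwa [← this] at h

theorem inf_A_mem {q : G} (h : q = 1 ∨ q = c₁ ∨ q = z ∨ q = z * c₁) : q ∈ k.d.F₂.A := by
  rcases h with rfl | rfl | rfl | rfl
  · exact one_mem _
  · exact k.c_mem_A₂ hz₁ hz₂ hz
  · exact k.d.F₂.V_le_A hz₂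
  · exact mul_mem (k.d.F₂.V_le_A hz₂) (k.c_mem_A₂ hz₁ hz₂ hz)

theorem mem_union {t : G} (ht : t ∈ T) (ht2 : t * t = 1) : t ∈ k.d.F₁.A ∨ t ∈ k.d.F₂.A := by
  refine or_iff_not_imp_left.2 fun htA => ?_
  obtain ⟨w, hw, hwT, hwA⟩ := k.d.exists_w
  have hk := k.d.mul_mem_A ht hwT htA hwA
  have hw2 := k.d.F₂.V_sq hw
  have hkw : w * (t * w) = t * w * w := by
    have h := k.d.F₁.A_sq hk
    calc w * (t * w) = t * t * (w * (t * w)) := by rw [ht2, one_mul]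
      _ = t * ((t * w) * (t * w)) := by simp only [mul_assoc]
      _ = t * (w * w) := by rw [h, hw2]
      _ = _ := by simp only [mul_assoc]
  have h2 := k.inf_A_mem hz₁ hz₂ hz (k.fixed_cases hwT hw2 hwA hz₁ hz
    (k.d.F₂.A_comm (k.d.F₂.V_le_A hw) (k.d.F₂.V_le_A hz₂)) hk hkw)
  have : t = t * w * w := by rw [mul_assoc, hw2, mul_one]
  rw [this]
  exact mul_mem h2 (k.d.F₂.V_le_A hw)

theorem sq_cases {t : G} (ht : t ∈ T) : t * t = 1 ∨ t * t = z := by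
  have h4 : t * t * (t * t) = 1 := by
    by_cases h : t ∈ k.d.F₁.A
    · rw [k.d.F₁.A_sq h, one_mul]
    · exact k.d.F₁.A_sq (k.d.mul_mem_A ht ht h h)
  have h1 := k.e₁.sq_mem_V (k.d.syl₁.1 ht) h4
  have h2 := k.e₂.sq_mem_V (k.d.syl₂.1 ht) h4
  rcases k.inf_A_cases hz₁ hz₂ hz (k.d.F₁.V_le_A h1) (k.d.F₂.V_le_A h2) with e | e | e | e
  · exact Or.inl e
  · exact absurd (e ▸ h1) k.e₁.not_mem_V
  · exact Or.inr e
  · refine absurd (mul_mem (inv_mem hz₁) (e ▸ h1)) ?_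
    rw [inv_mul_cancel_left]
    exact k.e₁.not_mem_V

omit hz₁ hz₂ hz in
theorem mul_decomp {t : G} (ht : t ∈ T) : ∃ a ∈ k.d.F₁.A, ∃ b ∈ k.d.F₂.A, t = a * b := by
  by_cases h : t ∈ k.d.F₁.A
  · exact ⟨t, h, 1, one_mem _, (mul_one t).symm⟩
  · obtain ⟨w, hw, hwT, hwA⟩ := k.d.exists_w
    exact ⟨t * w, k.d.mul_mem_A ht hwT h hwA, w, k.d.F₂.V_le_A hw,
      by rw [mul_assoc, k.d.F₂.V_sq hw, mul_one]⟩

theorem z_central {t : G} (ht : t ∈ T) : z * t = t * z := by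
  obtain ⟨a, ha, b, hb, rfl⟩ := k.mul_decomp ht
  rw [← mul_assoc, k.d.F₁.A_comm (k.d.F₁.V_le_A hz₁) ha, mul_assoc,
    k.d.F₂.A_comm (k.d.F₂.V_le_A hz₂) hb, mul_assoc]

omit hz₁ hz₂ hz in
theorem c_central {t : G} (ht : t ∈ T) : c₁ * t = t * c₁ := k.e₁.comm (k.d.syl₁.1 ht)

/-- An elementary subgroup of order eight of `T` is one of the two. -/
theorem eq_A {E : Subgroup G} (hET : E ≤ T) (hsq : ∀ e ∈ E, e * e = 1) (hcard : Nat.card E = 8) :
    E = k.d.F₁.A ∨ E = k.d.F₂.A := by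
  have hsub : E ≤ k.d.F₁.A ∨ E ≤ k.d.F₂.A := by
    by_contra h
    push Not at h
    obtain ⟨a, ha, haA⟩ := SetLike.not_le_iff_exists.1 h.1
    obtain ⟨b, hb, hbA⟩ := SetLike.not_le_iff_exists.1 h.2
    have ha' := (k.mem_union hz₁ hz₂ hz (hET ha) (hsq a ha)).resolve_left haA
    have hb' := (k.mem_union hz₁ hz₂ hz (hET hb) (hsq b hb)).resolve_right hbA
    rcases k.mem_union hz₁ hz₂ hz (hET (mul_mem ha hb)) (hsq _ (mul_mem ha hb)) with h' | h'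
    · exact haA ((Subgroup.mul_mem_cancel_right _ hb').1 h')
    · exact hbA ((Subgroup.mul_mem_cancel_left _ ha').1 h')
  rcases hsub with h | h
  · exact Or.inl (eq_of_le_of_card_ge h (by rw [hcard, k.e₁.card_A]))
  · exact Or.inr (eq_of_le_of_card_ge h (by rw [hcard, k.e₂.card_A]))

/-- Elements normalizing `T` outside `T` interchange the two sides. -/
def IsSwap (g : G) : Prop := g ∈ normalizer (T : Set G) ∧ g ∉ T

omit hz₁ hz₂ hz in
theorem conj_V {g : G} (hP : ∀ p, p ∈ P₁ ↔ g * p * g⁻¹ ∈ P₂) :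
    g * c₁ * g⁻¹ = c₂ ∧ ∀ v ∈ V₁, g * v * g⁻¹ ∈ V₂ := by
  have hc : g * c₁ * g⁻¹ ≠ 1 := fun h => k.e₁.ne_one (by rwa [conj_eq_one_iff] at h)
  refine ⟨(k.e₂.eq_of_central ((hP _).1 k.e₁.memP) fun p hp => ?_).resolve_left hc, fun v hv => ?_⟩
  · have hq : g⁻¹ * p * g ∈ P₁ := (hP _).2 (by simpa [mul_assoc] using hp)
    have := k.e₁.comm hq
    calc g * c₁ * g⁻¹ * p = g * (c₁ * (g⁻¹ * p * g)) * g⁻¹ := by group
      _ = g * (g⁻¹ * p * g * c₁) * g⁻¹ := by rw [this]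
      _ = _ := by group
  · obtain ⟨hvP, hv2, p, hp, q, hq, rfl⟩ := k.e₁.mem_V_iff.1 hv
    refine k.e₂.mem_V_iff.2 ⟨(hP _).1 hvP, ?_, _, (hP p).1 hp, _, (hP q).1 hq, by group⟩
    rw [show ∀ r : G, g * r * g⁻¹ * (g * r * g⁻¹) = g * (r * r) * g⁻¹ from fun r => by group, hv2]
    group

theorem swap_spec {g : G} (hg : g ∈ normalizer (T : Set G)) :
    (g ∈ T ∧ ∀ p, p ∈ P₁ ↔ g * p * g⁻¹ ∈ P₁) ∨
      (g ∉ T ∧ (∀ p, p ∈ P₁ ↔ g * p * g⁻¹ ∈ P₂) ∧ (∀ p, p ∈ P₂ ↔ g * p * g⁻¹ ∈ P₁) ∧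
        ∀ a ∈ k.d.F₁.A, g * a * g⁻¹ ∈ k.d.F₂.A) := by
  have himg : ∀ {P V : Subgroup G} (F : Sq P V), F.A ≤ T → Nat.card F.A = 8 →
      F.A.map (MulAut.conj g).toMonoidHom = k.d.F₁.A ∨ F.A.map (MulAut.conj g).toMonoidHom = k.d.F₂.A := by
    intro P V F hle hcard
    refine k.eq_A hz₁ hz₂ hz ?_ ?_ ?_
    · rintro _ ⟨a, ha, rfl⟩
      exact (mem_normalizer_iff.1 hg a).1 (hle ha)
    · rintro _ ⟨a, ha, rfl⟩
      show g * a * g⁻¹ * (g * a * g⁻¹) = 1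
      rw [show g * a * g⁻¹ * (g * a * g⁻¹) = g * (a * a) * g⁻¹ by group, F.A_sq ha]
      group
    · rw [← hcard]
      exact (Nat.card_congr (equivMapOfInjective _ _ (MulAut.conj g).injective).toEquiv).symm
  have hinj : Function.Injective (map (MulAut.conj g).toMonoidHom : Subgroup G → Subgroup G) :=
    map_injective (MulAut.conj g).injective
  have hne : k.d.F₁.A.map (MulAut.conj g).toMonoidHom ≠ k.d.F₂.A.map (MulAut.conj g).toMonoidHom :=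
    fun h => k.d.A_ne (hinj h)
  have hnorm : ∀ {A B : Subgroup G}, A.map (MulAut.conj g).toMonoidHom = B →
      ∀ p, p ∈ normalizer (A : Set G) ↔ g * p * g⁻¹ ∈ normalizer (B : Set G) := by
    intro A B h p
    have hm : ∀ x, x ∈ A ↔ g * x * g⁻¹ ∈ B := fun x => by
      rw [← h]
      exact (mem_map_iff_mem (f := (MulAut.conj g).toMonoidHom) (MulAut.conj g).injective).symm
    simp only [mem_normalizer_iff]
    constructor
    · intro hp y
      have e := hp (g⁻¹ * y * g)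
      rw [hm, hm] at e
      rw [show g * (g⁻¹ * y * g) * g⁻¹ = y by group, show g * (p * (g⁻¹ * y * g) * p⁻¹) * g⁻¹ =
        g * p * g⁻¹ * y * (g * p * g⁻¹)⁻¹ by group] at e
      exact e
    · intro hp x
      rw [hm, hm (p * x * p⁻¹), show g * (p * x * p⁻¹) * g⁻¹ =
        g * p * g⁻¹ * (g * x * g⁻¹) * (g * p * g⁻¹)⁻¹ by group]
      exact hp _
  have e₂ : normalizer (k.d.F₂.A : Set G) = P₂ := k.d.symm.normalizer_A
  rcases himg k.d.F₁ k.A_le k.e₁.card_A with h | h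
  · have h' := (himg k.d.F₂ k.symm.A_le k.e₂.card_A).resolve_left fun h' => hne (h.trans h'.symm)
    refine Or.inl ⟨?_, ?_⟩
    · rw [← k.d.inf_eq]
      refine ⟨?_, ?_⟩
      · rw [← k.d.normalizer_A]; exact mem_normalizer_iff_map_conj_eq.2 h
      · rw [← k.d.symm.normalizer_A]; exact mem_normalizer_iff_map_conj_eq.2 h'
    · intro p
      rw [← k.d.normalizer_A]; exact hnorm h p
  · have h' := (himg k.d.F₂ k.symm.A_le k.e₂.card_A).resolve_right fun h' => hne (h.trans h'.symm)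
    refine Or.inr ⟨fun hgT => k.d.A_ne ?_, ?_, ?_, fun a ha => h ▸ ⟨a, ha, rfl⟩⟩
    · rw [← h]
      exact (mem_normalizer_iff_map_conj_eq.1 (k.d.F₁.A_normal (k.d.syl₁.1 hgT))).symm
    · intro p
      have := hnorm h p
      rwa [k.d.normalizer_A, e₂] at this
    · intro p
      have := hnorm h' p
      rwa [k.d.normalizer_A, e₂] at this

theorem swap_conj {g : G} (hg : g ∈ normalizer (T : Set G)) (hgT : g ∉ T) :
    g * c₁ * g⁻¹ = c₂ ∧ g * c₂ * g⁻¹ = c₁ ∧ (∀ v ∈ V₁, g * v * g⁻¹ ∈ V₂) ∧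
      (∀ v ∈ V₂, g * v * g⁻¹ ∈ V₁) ∧ ∀ a ∈ k.d.F₁.A, g * a * g⁻¹ ∈ k.d.F₂.A := by
  obtain ⟨h, -⟩ | ⟨-, h1, h2, h3⟩ := k.swap_spec hz₁ hz₂ hz hg
  · exact absurd h hgT
  · obtain ⟨a, b⟩ := k.conj_V h1
    obtain ⟨a', b'⟩ := k.symm.conj_V h2
    exact ⟨a, a', b, b', h3⟩

theorem normalizer_fix {g : G} (hg : g ∈ normalizer (T : Set G)) : g * z = z * g := by
  by_cases h : g ∈ T
  · exact (k.z_central hz₁ hz₂ hz h).symm
  · obtain ⟨-, -, h1, h2, -⟩ := k.swap_conj hz₁ hz₂ hz hg h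
    refine mul_inv_eq_iff_eq_mul.1 ?_
    rcases k.inf_A_cases hz₁ hz₂ hz (k.d.F₁.V_le_A (h2 z hz₂)) (k.d.F₂.V_le_A (h1 z hz₁)) with e | e | e | e
    · exact absurd (conj_eq_one_iff.1 e) hz
    · exact absurd (e ▸ h2 z hz₂) k.e₁.not_mem_V
    · exact e
    · refine absurd ?_ k.e₁.not_mem_V
      have := mul_mem (inv_mem hz₁) (e ▸ h2 z hz₂)
      rwa [inv_mul_cancel_left] at this

theorem swap_fixed {g t : G} (hg : g ∈ normalizer (T : Set G)) (hgT : g ∉ T) (ht : t ∈ T)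
    (ht2 : t * t = 1) (hfix : g * t = t * g) : t = 1 ∨ t = z := by
  obtain ⟨hc, hc', -, -, hA⟩ := k.swap_conj hz₁ hz₂ hz hg hgT
  obtain ⟨-, -, -, -, hA'⟩ := k.symm.swap_conj hz₂ hz₁ hz hg hgT
  have hf : g * t * g⁻¹ = t := by rw [hfix, mul_inv_cancel_right]
  have hboth : t ∈ k.d.F₁.A ∧ t ∈ k.d.F₂.A := by
    rcases k.mem_union hz₁ hz₂ hz ht ht2 with h | h
    · exact ⟨h, hf ▸ hA t h⟩
    · exact ⟨hf ▸ hA' t h, h⟩
  rcases k.inf_A_cases hz₁ hz₂ hz hboth.1 hboth.2 with e | e | e | e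
  · exact Or.inl e
  · rw [e, hc] at hf
    exact absurd hf.symm k.c_ne
  · exact Or.inr e
  · rw [← k.c_eq hz₁ hz₂ hz] at e
    rw [e, hc'] at hf
    exact absurd hf k.c_ne

omit hz₁ hz₂ hz in
theorem mem_normalizer_V : V₂ ≤ normalizer (V₁ : Set G) :=
  fun _ hv => k.d.F₁.normal (k.d.syl₁.1 (k.d.symm.V_le_T hv))

theorem c_not_mem_sup : c₁ ∉ V₂ ⊔ V₁ := by
  intro h
  obtain ⟨a, ha, b, hb, e⟩ := (Solvable.mem_sup_of_le_normalizer k.mem_normalizer_V).1 h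
  have haA : a ∈ k.d.F₁.A := by
    rw [show a = c₁ * b⁻¹ by rw [← e]; group]
    exact mul_mem k.e₁.mem_A (inv_mem (k.d.F₁.V_le_A hb))
  rcases k.inf_A_cases hz₁ hz₂ hz haA (k.d.F₂.V_le_A ha) with r | r | r | r
  · rw [r, one_mul] at e; exact k.e₁.not_mem_V (e ▸ hb)
  · refine k.e₂.not_mem_V ?_
    rw [k.c_eq hz₁ hz₂ hz]
    exact mul_mem hz₂ (r ▸ ha)
  · exact k.e₁.not_mem_V (e ▸ mul_mem (r ▸ hz₁) hb)
  · exact k.e₂.not_mem_V (k.c_eq hz₁ hz₂ hz ▸ r ▸ ha)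

omit hz₁ hz₂ hz in
theorem sup_le_T : V₂ ⊔ V₁ ≤ T := _root_.sup_le k.d.symm.V_le_T k.d.V_le_T

/-- Modulo `V₂V₁` the subgroup `T` is `⟨c₁⟩`. -/
theorem mem_or {t : G} (ht : t ∈ T) : t ∈ V₂ ⊔ V₁ ∨ t * c₁ ∈ V₂ ⊔ V₁ := by
  have hA : ∀ a ∈ k.d.F₁.A, a ∈ V₂ ⊔ V₁ ∨ a * c₁ ∈ V₂ ⊔ V₁ := by
    intro a ha
    obtain ⟨v, hv, rfl | rfl⟩ := k.e₁.A_cases ha
    · exact Or.inl (mem_sup_right hv)
    · exact Or.inr (by rw [mul_assoc, k.e₁.sq, mul_one]; exact mem_sup_right hv)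
  by_cases h : t ∈ k.d.F₁.A
  · exact hA t h
  · obtain ⟨w, hw, hwT, hwA⟩ := k.d.exists_w
    have hw' : w ∈ V₂ ⊔ V₁ := mem_sup_left hw
    rcases hA _ (k.d.mul_mem_A ht hwT h hwA) with r | r
    · exact Or.inl ((Subgroup.mul_mem_cancel_right _ hw').1 r)
    · refine Or.inr ((Subgroup.mul_mem_cancel_right _ hw').1 ?_)
      rw [mul_assoc, k.c_central hwT, ← mul_assoc]
      exact r

theorem relIndex_sup : (V₂ ⊔ V₁).relIndex T = 2 := by
  refine index_eq_two_iff.2 ⟨⟨c₁, k.c_mem_T⟩, fun b => ?_⟩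
  simp only [mem_subgroupOf, Subgroup.coe_mul]
  rcases k.mem_or hz₁ hz₂ hz b.2 with h | h
  · exact Or.inr ⟨h, fun h' => k.c_not_mem_sup hz₁ hz₂ hz ((Subgroup.mul_mem_cancel_left _ h).1 h')⟩
  · exact Or.inl ⟨h, fun h' => k.c_not_mem_sup hz₁ hz₂ hz ((Subgroup.mul_mem_cancel_left _ h').1 h)⟩

theorem sup_invol {t : G} (ht : t ∈ V₂ ⊔ V₁) (ht2 : t * t = 1) : t ∈ V₁ ∨ t ∈ V₂ := by
  obtain ⟨a, ha, b, hb, rfl⟩ := (Solvable.mem_sup_of_le_normalizer k.mem_normalizer_V).1 ht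
  have hcase : ∀ q, q = 1 ∨ q = c₁ ∨ q = z ∨ q = z * c₁ → q ∈ V₂ ⊔ V₁ → q = 1 ∨ q = z := by
    rintro q (r | r | r | r) hq
    · exact Or.inl r
    · exact absurd (r ▸ hq) (k.c_not_mem_sup hz₁ hz₂ hz)
    · exact Or.inr r
    · exact absurd ((Subgroup.mul_mem_cancel_left _ (mem_sup_right hz₁)).1 (r ▸ hq))
        (k.c_not_mem_sup hz₁ hz₂ hz)
  rcases k.mem_union hz₁ hz₂ hz (k.sup_le_T ht) ht2 with h | h
  · left
    rcases hcase a (k.inf_A_cases hz₁ hz₂ hz ((Subgroup.mul_mem_cancel_right _ (k.d.F₁.V_le_A hb)).1 h)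
        (k.d.F₂.V_le_A ha)) (mem_sup_left ha) with r | r
    · rw [r, one_mul]; exact hb
    · rw [r]; exact mul_mem hz₁ hb
  · right
    rcases hcase b (k.inf_A_cases hz₁ hz₂ hz (k.d.F₁.V_le_A hb)
        ((Subgroup.mul_mem_cancel_left _ (k.d.F₂.V_le_A ha)).1 h)) (mem_sup_right hb) with r | r
    · rw [r, mul_one]; exact ha
    · rw [r]; exact mul_mem ha hz₂

theorem exists_root {g : G} (hg : g ∈ normalizer (T : Set G)) (hgT : g ∉ T) :
    ∃ r ∈ T, g * r = r * g ∧ r * r = z := by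
  obtain ⟨hc, -, hV, hV', -⟩ := k.swap_conj hz₁ hz₂ hz hg hgT
  obtain ⟨w, hw, hwT, hwA⟩ := k.d.exists_w
  obtain ⟨v, hv, hv1⟩ : ∃ v ∈ V₁, v ∉ ({1, z} : Set G) := by
    by_contra hh
    push Not at hh
    have h4 := k.d.F₁.card_V
    rw [← SetLike.coe_sort_coe, Nat.card_coe_set_eq] at h4
    have := (Set.ncard_le_ncard (fun x hx => hh x hx : (V₁ : Set G) ⊆ {1, z}) (Set.toFinite _)).trans
      (Set.ncard_insert_le _ _)
    rw [Set.ncard_singleton] at this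
    omega
  simp only [Set.mem_insert_iff, Set.mem_singleton_iff, not_or] at hv1
  have hvT := k.d.V_le_T hv
  set r := v * w
  have hrT : r ∈ T := mul_mem hvT hwT
  have hrA : r ∉ k.d.F₁.A := fun h => hwA ((Subgroup.mul_mem_cancel_left _ (k.d.F₁.V_le_A hv)).1 h)
  have hr2 : r * r = z := by
    refine (k.sq_cases hz₁ hz₂ hz hrT).resolve_left fun h => ?_
    have hcomm : w * v = v * w := by
      calc w * v = v * v * (w * v) * (w * w) := by rw [k.d.F₁.V_sq hv, k.d.F₂.V_sq hw]; simp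
        _ = v * (r * r) * w := by simp only [r, mul_assoc]
        _ = v * w := by rw [h, mul_one]
    rcases k.fixed_cases hwT (k.d.F₂.V_sq hw) hwA hz₁ hz
        (k.d.F₂.A_comm (k.d.F₂.V_le_A hw) (k.d.F₂.V_le_A hz₂)) (k.d.F₁.V_le_A hv) hcomm with e | e | e | e
    · exact hv1.1 e
    · exact k.e₁.not_mem_V (e ▸ hv)
    · exact hv1.2 e
    · refine k.e₁.not_mem_V ?_
      have := mul_mem (inv_mem hz₁) (e ▸ hv)
      rwa [inv_mul_cancel_left] at this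
  set r' := g * r * g⁻¹
  have hr'T : r' ∈ T := (mem_normalizer_iff.1 hg r).1 hrT
  have hr'2 : r' * r' = z := by
    rw [show r' * r' = g * (r * r) * g⁻¹ by simp only [r']; group, hr2,
      k.normalizer_fix hz₁ hz₂ hz hg, mul_inv_cancel_right]
  have hr'A : r' ∉ k.d.F₁.A := fun h => hz (hr'2 ▸ k.d.F₁.A_sq h)
  have hr'A₂ : r' ∉ k.d.F₂.A := fun h => hz (hr'2 ▸ k.d.F₂.A_sq h)
  have hrA₂ : r ∉ k.d.F₂.A := fun h => hz (hr2 ▸ k.d.F₂.A_sq h)
  have hr' : r' ∈ V₂ ⊔ V₁ := by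
    rw [show r' = (g * v * g⁻¹) * (g * w * g⁻¹) by simp only [r', r]; group]
    exact mul_mem (mem_sup_left (hV v hv)) (mem_sup_right (hV' w hw))
  have hr : r ∈ V₂ ⊔ V₁ := mul_mem (mem_sup_right hv) (mem_sup_left hw)
  have hq := k.inf_A_cases hz₁ hz₂ hz (k.d.mul_mem_A hr'T hrT hr'A hrA)
    (k.d.symm.mul_mem_A hr'T hrT hr'A₂ hrA₂)
  rcases hq with e | e | e | e
  · -- `r' = r⁻¹`
    refine ⟨c₁ * r, mul_mem k.c_mem_T hrT, ?_, ?_⟩
    · refine mul_inv_eq_iff_eq_mul.1 ?_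
      rw [show g * (c₁ * r) * g⁻¹ = (g * c₁ * g⁻¹) * r' by simp only [r']; group, hc,
        k.c_eq hz₁ hz₂ hz, eq_inv_of_mul_eq_one_left e]
      calc z * c₁ * r⁻¹ = c₁ * (z * r⁻¹) := by rw [← mul_assoc, k.z_central hz₁ hz₂ hz k.c_mem_T]
        _ = c₁ * (r * r * r⁻¹) := by rw [hr2]
        _ = c₁ * r := by group
    · calc c₁ * r * (c₁ * r) = c₁ * (r * c₁) * r := by group
        _ = c₁ * c₁ * (r * r) := by rw [← k.c_central hrT]; group
        _ = z := by rw [k.e₁.sq, one_mul, hr2]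
  · exact absurd (e ▸ mul_mem hr' hr) (k.c_not_mem_sup hz₁ hz₂ hz)
  · refine ⟨r, hrT, mul_inv_eq_iff_eq_mul.1 ?_, hr2⟩
    exact mul_right_cancel (e.trans hr2.symm)
  · exact absurd ((Subgroup.mul_mem_cancel_left _ (mem_sup_right hz₁)).1 (e ▸ mul_mem hr' hr))
      (k.c_not_mem_sup hz₁ hz₂ hz)

omit hz₁ hz₂ hz

theorem conj_z_of_V {t : G} (ht : t ∈ V₁ ∨ t ∈ V₂) (ht1 : t ≠ 1) {z : G} (hz₁ : z ∈ V₁)
    (hz₂ : z ∈ V₂) (hz : z ≠ 1) : ∃ g : G, g * t * g⁻¹ = z := by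
  rcases ht with h | h
  · obtain ⟨p, -, -, e⟩ := k.d.F₁.trans h hz₁ ht1 hz
    exact ⟨p, e⟩
  · obtain ⟨p, -, -, e⟩ := k.d.F₂.trans h hz₂ ht1 hz
    exact ⟨p, e⟩

include hz₁ hz₂ hz

theorem invol_conj {v : G} (hv : v ∈ T) (hv2 : v * v = 1) (hv1 : v ≠ 1) :
    ∃ g : G, g * v * g⁻¹ = z ∨ g * v * g⁻¹ = c₁ ∨ g * v * g⁻¹ = c₂ := by
  have step : ∀ {P₁ V₁ P₂ V₂ : Subgroup G} {c₁ c₂ : G} (k : Conf T P₁ V₁ P₂ V₂ c₁ c₂),
      z ∈ V₁ → z ∈ V₂ → v ∈ k.d.F₁.A →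
        ∃ g : G, g * v * g⁻¹ = z ∨ g * v * g⁻¹ = c₁ ∨ g * v * g⁻¹ = c₂ := by
    intro P₁ V₁ P₂ V₂ c₁ c₂ k hz₁ hz₂ h
    obtain ⟨u, hu, e⟩ := k.e₁.A_cases h
    rcases eq_or_ne u 1 with rfl | hu1
    · rcases e with e | e
      · exact absurd e hv1
      · exact ⟨1, Or.inr (Or.inl (by rw [e]; group))⟩
    obtain ⟨p, hp, -, hpu⟩ := k.d.F₁.trans hu hz₁ hu1 hz
    rcases e with e | e
    · exact ⟨p, Or.inl (by rw [e, hpu])⟩
    · refine ⟨p, Or.inr (Or.inr ?_)⟩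
      rw [e, show p * (u * c₁) * p⁻¹ = p * u * p⁻¹ * (p * c₁ * p⁻¹) by group, hpu,
        ← k.e₁.comm hp, mul_inv_cancel_right, k.c_eq hz₁ hz₂ hz]
  rcases k.mem_union hz₁ hz₂ hz hv hv2 with h | h
  · exact step k hz₁ hz₂ h
  · obtain ⟨g, e | e | e⟩ := step k.symm hz₂ hz₁ h
    · exact ⟨g, Or.inl e⟩
    · exact ⟨g, Or.inr (Or.inr e)⟩
    · exact ⟨g, Or.inr (Or.inl e)⟩

omit hz₁ hz₂ hz in
theorem exists_conj_le {R : Subgroup G} (hR : IsPGroup 2 R) (hRP : R ≤ P₁) :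
    ∃ l ∈ P₁, ∀ r ∈ R, l * r * l⁻¹ ∈ T := by
  haveI : Fact (Nat.Prime 2) := ⟨Nat.prime_two⟩
  obtain ⟨l, hl, hle⟩ := (CfsgLib.JComp.sylowTwo_iff.1 k.d.syl₁).exists_cj_le hR hRP
  exact ⟨l, hl, fun r hr => hle ⟨r, hr, rfl⟩⟩

variable {S : Sylow 2 G} (hTS : T ≤ (S : Subgroup G))

include hTS

theorem normalizer_le_of {u : G}
    (hun : u ∈ normalizer (((S : Subgroup G) ⊓ normalizer (T : Set G) : Subgroup G) : Set G)) :
    u ∈ normalizer (T : Set G) := by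
  set R := (S : Subgroup G) ⊓ normalizer (T : Set G)
  have himg : ∀ {P V : Subgroup G} (F : Sq P V), F.A ≤ T → Nat.card F.A = 8 →
      ∀ a ∈ F.A, u * a * u⁻¹ ∈ T := by
    intro P V F hle hcard
    set E := F.A.map (MulAut.conj u).toMonoidHom
    suffices E ≤ T from fun a ha => this ⟨a, ha, rfl⟩
    have hER : E ≤ R := by
      rintro _ ⟨a, ha, rfl⟩
      exact (mem_normalizer_iff.1 hun a).1 ⟨hTS (hle ha), Subgroup.le_normalizer (hle ha)⟩
    have hsq : ∀ e ∈ E, e * e = 1 := by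
      rintro _ ⟨a, ha, rfl⟩
      show u * a * u⁻¹ * (u * a * u⁻¹) = 1
      rw [show u * a * u⁻¹ * (u * a * u⁻¹) = u * (a * a) * u⁻¹ by group, F.A_sq ha]
      group
    have hEc : ∀ e ∈ E, ∀ f ∈ E, e * f = f * e := by
      rintro _ ⟨a, ha, rfl⟩ _ ⟨b, hb, rfl⟩
      rw [← map_mul, ← map_mul, F.A_comm ha hb]
    intro e he
    by_contra heT
    have hE8 : Nat.card E = 8 := by
      rw [← hcard]
      exact (Nat.card_congr (equivMapOfInjective _ _ (MulAut.conj u).injective).toEquiv).symm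
    have hsub : (E : Set G) ⊆ {1, z, e, e * z} := by
      intro f hf
      by_cases hfT : f ∈ T
      · rcases k.swap_fixed hz₁ hz₂ hz (hER he).2 heT hfT (hsq f hf) (hEc e he f hf) with r | r <;>
          simp [r]
      · have hef : e * f ∈ T := by
          by_contra hef
          obtain ⟨hc, -⟩ := k.swap_conj hz₁ hz₂ hz (mul_mem (hER he).2 (hER hf).2) hef
          obtain ⟨-, he₂, -⟩ := k.swap_conj hz₁ hz₂ hz (hER he).2 heT
          obtain ⟨hf₁, -⟩ := k.swap_conj hz₁ hz₂ hz (hER hf).2 hfT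
          rw [show e * f * c₁ * (e * f)⁻¹ = e * (f * c₁ * f⁻¹) * e⁻¹ by group, hf₁, he₂] at hc
          exact k.c_ne hc
        rcases k.swap_fixed hz₁ hz₂ hz (hER he).2 heT hef (hsq _ (mul_mem he hf))
            (hEc e he _ (mul_mem he hf)) with r | r
        · have : f = e := by
            calc f = e * e * f := by rw [hsq e he, one_mul]
              _ = e := by rw [mul_assoc, r, mul_one]
          simp [this]
        · have : f = e * z := by rw [← r, ← mul_assoc, hsq e he, one_mul]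
          simp [this]
    have h1 := Set.ncard_le_ncard hsub (Set.toFinite _)
    rw [← Nat.card_coe_set_eq, SetLike.coe_sort_coe, hE8] at h1
    have h2 : ({1, z, e, e * z} : Set G).ncard ≤ 4 := by
      refine (Set.ncard_insert_le _ _).trans (Nat.succ_le_succ ?_)
      refine (Set.ncard_insert_le _ _).trans (Nat.succ_le_succ ?_)
      exact (Set.ncard_insert_le _ _).trans (by rw [Set.ncard_singleton])
    omega
  refine LocalB.mem_normalizer_of_conj_le fun t ht => ?_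
  obtain ⟨a, ha, b, hb, rfl⟩ := k.mul_decomp ht
  rw [show u * (a * b) * u⁻¹ = u * a * u⁻¹ * (u * b * u⁻¹) by group]
  exact mul_mem (himg k.d.F₁ k.A_le k.e₁.card_A a ha) (himg k.d.F₂ k.symm.A_le k.e₂.card_A b hb)

theorem sylow_normalizes {g : G} (hg : g ∈ (S : Subgroup G)) : g ∈ normalizer (T : Set G) := by
  haveI : Fact (Nat.Prime 2) := ⟨Nat.prime_two⟩
  set R := (S : Subgroup G) ⊓ normalizer (T : Set G)
  suffices R = (S : Subgroup G) by rw [← this] at hg; exact hg.2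
  by_contra hne
  obtain ⟨u, huS, hun, huR⟩ := LocalB.exists_mem_normalizer_not_mem S.2 inf_le_left hne
  exact huR ⟨huS, k.normalizer_le_of hz₁ hz₂ hz hTS hun⟩

theorem normalizer_le {g : G} (hg : g ∈ normalizer ((S : Subgroup G) : Set G)) :
    g ∈ normalizer (T : Set G) := by
  refine k.normalizer_le_of hz₁ hz₂ hz hTS ?_
  rwa [inf_eq_left.2 fun _ h => k.sylow_normalizes hz₁ hz₂ hz hTS h]

theorem sylow_fix {s : G} (hs : s ∈ (S : Subgroup G)) : s * z = z * s :=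
  k.normalizer_fix hz₁ hz₂ hz (k.sylow_normalizes hz₁ hz₂ hz hTS hs)

theorem mul_mem_T {s t : G} (hs : s ∈ (S : Subgroup G)) (ht : t ∈ (S : Subgroup G)) (hsT : s ∉ T)
    (htT : t ∉ T) : s * t ∈ T := by
  by_contra hst
  have hn : ∀ {u : G}, u ∈ (S : Subgroup G) → u ∈ normalizer (T : Set G) :=
    fun h => k.sylow_normalizes hz₁ hz₂ hz hTS h
  obtain ⟨hc, -⟩ := k.swap_conj hz₁ hz₂ hz (hn (mul_mem hs ht)) hst
  obtain ⟨-, hs₂, -⟩ := k.swap_conj hz₁ hz₂ hz (hn hs) hsT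
  obtain ⟨ht₁, -⟩ := k.swap_conj hz₁ hz₂ hz (hn ht) htT
  rw [show s * t * c₁ * (s * t)⁻¹ = s * (t * c₁ * t⁻¹) * s⁻¹ by group, ht₁, hs₂] at hc
  exact k.c_ne hc

theorem sq_eq {s : G} (hs : s ∈ (S : Subgroup G)) (h2 : s * s ≠ 1) (h4 : s * s * (s * s) = 1) :
    s * s = z := by
  by_cases h : s ∈ T
  · exact (k.sq_cases hz₁ hz₂ hz h).resolve_left h2
  · exact (k.swap_fixed hz₁ hz₂ hz (k.sylow_normalizes hz₁ hz₂ hz hTS hs) h
      (k.mul_mem_T hz₁ hz₂ hz hTS hs hs h h) h4 (mul_assoc s s s).symm).resolve_left h2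

theorem relIndex_T {y : G} (hy : y ∈ (S : Subgroup G)) (hyT : y ∉ T) :
    T.relIndex (S : Subgroup G) = 2 := by
  refine index_eq_two_iff.2 ⟨⟨y, hy⟩, fun b => ?_⟩
  simp only [mem_subgroupOf, Subgroup.coe_mul]
  by_cases hb : (b : G) ∈ T
  · exact Or.inr ⟨hb, fun h => hyT ((Subgroup.mul_mem_cancel_left _ hb).1 h)⟩
  · exact Or.inl ⟨k.mul_mem_T hz₁ hz₂ hz hTS b.2 hy hb hyT, hb⟩

variable (hCz : ∀ g : G, g * z = z * g → g ∈ normalizer ((S : Subgroup G) : Set G))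

include hCz

theorem not_conj_z {x g : G} (hx : x ∈ (S : Subgroup G)) (hxT : x ∉ T) : g * x * g⁻¹ ≠ z := by
  intro he
  haveI : Fact (Nat.Prime 2) := ⟨Nat.prime_two⟩
  obtain ⟨r, -, hxr, hr⟩ := k.exists_root hz₁ hz₂ hz (k.sylow_normalizes hz₁ hz₂ hz hTS hx) hxT
  set r' := g * r * g⁻¹
  have hn : r' ∈ normalizer ((S : Subgroup G) : Set G) := hCz r' (by
    rw [← he, show r' * (g * x * g⁻¹) = g * (r * x) * g⁻¹ by simp only [r']; group, ← hxr]
    simp only [r']; group)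
  have hr2 : r' * r' = g * z * g⁻¹ := by rw [← hr]; simp only [r']; group
  have hr4 : r' * r' * (r' * r') = 1 := by
    rw [hr2, show g * z * g⁻¹ * (g * z * g⁻¹) = g * (z * z) * g⁻¹ by group, k.z_sq hz₁ hz₂ hz]
    group
  have hp : IsPGroup 2 (zpowers r') := by
    obtain ⟨j, -, hj⟩ := (Nat.dvd_prime_pow Nat.prime_two).1 (orderOf_dvd_of_pow_eq_one
      (show r' ^ 2 ^ 2 = 1 by rw [show (2 : ℕ) ^ 2 = 4 by rfl, pow_four, mul_assoc]; exact hr4))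
    exact IsPGroup.of_card (n := j) (by rw [Nat.card_zpowers, hj])
  have hS : r' ∈ (S : Subgroup G) := by
    have e := S.3 (hp.to_sup_of_normal_right' S.2 (zpowers_le.2 hn)) le_sup_right
    rw [← e]
    exact mem_sup_left (mem_zpowers r')
  have hne : r' * r' ≠ 1 := fun h => hz (conj_eq_one_iff.1 (hr2.symm.trans h))
  have hg : g * z = z * g :=
    mul_inv_eq_iff_eq_mul.1 (hr2.symm.trans (k.sq_eq hz₁ hz₂ hz hTS hS hne hr4))
  refine hxT ((mem_normalizer_iff.1 (k.normalizer_le hz₁ hz₂ hz hTS (hCz g hg)) x).2 ?_)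
  rw [he]
  exact k.d.V_le_T hz₁

theorem not_conj_c {x g : G} (hx : x ∈ (S : Subgroup G)) (hxT : x ∉ T) : g * x * g⁻¹ ≠ c₁ := by
  intro he
  obtain ⟨r, -, hxr, hr⟩ := k.exists_root hz₁ hz₂ hz (k.sylow_normalizes hz₁ hz₂ hz hTS hx) hxT
  set r' := g * r * g⁻¹
  have hr2 : r' * r' = g * z * g⁻¹ := by rw [← hr]; simp only [r']; group
  have hP : r' ∈ P₁ := k.mem_of_comm (by
    rw [← he, show r' * (g * x * g⁻¹) = g * (r * x) * g⁻¹ by simp only [r']; group, ← hxr]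
    simp only [r']; group)
  have hr4 : r' * r' * (r' * r') = 1 := by
    rw [hr2, show g * z * g⁻¹ * (g * z * g⁻¹) = g * (z * z) * g⁻¹ by group, k.z_sq hz₁ hz₂ hz]
    group
  obtain ⟨p, hp, -, hpz⟩ := k.d.F₁.trans (k.e₁.sq_mem_V hP hr4) hz₁
    (fun h => hz (conj_eq_one_iff.1 (hr2.symm.trans h))) hz
  have hg : p * g * z = z * (p * g) := by
    refine mul_inv_eq_iff_eq_mul.1 ?_
    rw [show p * g * z * (p * g)⁻¹ = p * (g * z * g⁻¹) * p⁻¹ by group, ← hr2, hpz]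
  refine hxT ((mem_normalizer_iff.1 (k.normalizer_le hz₁ hz₂ hz hTS (hCz _ hg)) x).2 ?_)
  rw [show p * g * x * (p * g)⁻¹ = p * (g * x * g⁻¹) * p⁻¹ by group, he, ← k.e₁.comm hp,
    mul_inv_cancel_right]
  exact k.c_mem_T

omit hCz

variable {H : Subgroup G} [H.Normal] (h3 : ∀ g : G, Odd (orderOf g) → g ∈ H)
  (hH : H ≤ closure {g : G | Odd (orderOf g)})

include h3 hH

/-- The central involution of `P₁` avoids the odd residual. -/
theorem c_not_mem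
    (hZ : centralizer {x : G | x ∈ (S : Subgroup G) ∧ x ^ 2 = 1 ∧ ∀ s ∈ (S : Subgroup G), s * x = x * s} ≤
      normalizer ((S : Subgroup G) : Set G)) : c₁ ∉ H := by
  haveI : Fact (Nat.Prime 2) := ⟨Nat.prime_two⟩
  intro hc
  have hV : V₂ ⊔ V₁ ≤ H := _root_.sup_le (k.d.symm.V_le_H h3) (k.d.V_le_H h3)
  have hTH : T ≤ H := fun t ht => (k.mem_or hz₁ hz₂ hz ht).elim (fun h => hV h)
    fun h => (Subgroup.mul_mem_cancel_right _ hc).1 (hV h)
  have hS2 : ∀ {u : G}, u ∈ (S : Subgroup G) → u ∈ normalizer (T : Set G) :=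
    fun h => k.sylow_normalizes hz₁ hz₂ hz hTS h
  by_cases hSH : (S : Subgroup G) ⊓ H ≤ T
  · obtain ⟨Q, hQ⟩ := (k.d.syl₁.2.1.comap_subtype (K := H)).exists_le_sylow
    have hQT : T.subgroupOf H = Q := by
      refine eq_of_le_of_card_ge hQ ?_
      have hE : IsPGroup 2 ((Q : Subgroup H).map H.subtype) := Q.2.map _
      obtain ⟨g, -, hg⟩ := SylowKernel.conj_into S (C := ⊤) le_top le_top hE
      have hle : ((Q : Subgroup H).map H.subtype).map (MulAut.conj g).toMonoidHom ≤ T := by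
        rintro _ ⟨x, hx, rfl⟩
        exact hSH ⟨hg x hx, Normal.conj_mem inferInstance x (map_subtype_le _ hx) g⟩
      have := card_le_of_le hle
      rwa [card_map_of_injective (MulAut.conj g).injective, card_map_of_injective H.subtype_injective,
        ← Nat.card_congr (subgroupOfEquivOfLe hTH).toEquiv] at this
    have hodd : Odd (T.subgroupOf H).index := by
      rw [hQT, ← Nat.not_even_iff_odd, even_iff_two_dvd]
      exact Q.not_dvd_index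
    rcases ThompsonTransfer.thompson_transfer (T.subgroupOf H) ((V₂ ⊔ V₁).subgroupOf H) hodd
        (by rw [relIndex_subgroupOf hTH, k.relIndex_sup hz₁ hz₂ hz]) (u := (⟨c₁, hc⟩ : H))
        (Subtype.ext k.e₁.sq) with ⟨M, -, hM2, hcM⟩ | ⟨g, hg⟩
    · have hle : closure {g : G | Odd (orderOf g)} ≤ M.map H.subtype := (closure_le _).2 fun g hg =>
        ⟨⟨g, h3 g hg⟩, SylowKernel.mem_of_odd hM2 (by rw [Subgroup.orderOf_mk]; exact hg), rfl⟩
      obtain ⟨m, hm, e⟩ := hle (hH hc)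
      exact hcM ((Subtype.ext e : m = ⟨c₁, hc⟩) ▸ hm)
    · have hg' : (g : G) * c₁ * (g : G)⁻¹ ∈ V₂ ⊔ V₁ := hg
      obtain ⟨h, hh⟩ := k.conj_z_of_V (k.sup_invol hz₁ hz₂ hz hg' (by
          rw [show (g : G) * c₁ * (g : G)⁻¹ * (g * c₁ * (g : G)⁻¹) = g * (c₁ * c₁) * (g : G)⁻¹ by group,
            k.e₁.sq]
          group))
        (fun h => k.e₁.ne_one (conj_eq_one_iff.1 h)) hz₁ hz₂ hz
      set a := h * g
      have ha : a * c₁ * a⁻¹ = z := by rw [← hh]; simp only [a]; group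
      set R := (S : Subgroup G).map (MulAut.conj a⁻¹).toMonoidHom
      have hR : R ≤ P₁ := by
        rintro _ ⟨s, hs, rfl⟩
        refine k.mem_of_comm ?_
        show a⁻¹ * s * a⁻¹⁻¹ * c₁ = c₁ * (a⁻¹ * s * a⁻¹⁻¹)
        rw [show c₁ = a⁻¹ * z * a by rw [← ha]; group]
        calc a⁻¹ * s * a⁻¹⁻¹ * (a⁻¹ * z * a) = a⁻¹ * (s * z) * a := by group
          _ = _ := by rw [k.sylow_fix hz₁ hz₂ hz hTS hs]; group
      obtain ⟨l, hl, hlR⟩ := k.exists_conj_le (S.2.map _) hR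
      have hle : (S : Subgroup G).map (MulAut.conj (l * a⁻¹)).toMonoidHom ≤ T := by
        rintro _ ⟨s, hs, rfl⟩
        show l * a⁻¹ * s * (l * a⁻¹)⁻¹ ∈ T
        rw [show l * a⁻¹ * s * (l * a⁻¹)⁻¹ = l * (a⁻¹ * s * a⁻¹⁻¹) * l⁻¹ by group]
        exact hlR _ ⟨s, hs, rfl⟩
      have hTS' : T = (S : Subgroup G) := eq_of_le_of_card_ge hTS (by
        have := card_le_of_le hle
        rwa [card_map_of_injective (MulAut.conj _).injective] at this)
      have hn : l * a⁻¹ ∈ normalizer (T : Set G) :=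
        LocalB.mem_normalizer_of_conj_le fun t ht => hle ⟨t, hTS ht, rfl⟩
      refine k.e₁.not_mem_V ?_
      have hf := mul_inv_eq_iff_eq_mul.2 (k.normalizer_fix hz₁ hz₂ hz hn)
      rw [show l * a⁻¹ * z * (l * a⁻¹)⁻¹ = l * c₁ * l⁻¹ by rw [← ha]; group, ← k.e₁.comm hl,
        mul_inv_cancel_right] at hf
      rw [hf]
      exact hz₁
  · obtain ⟨y, ⟨hy, hyH⟩, hyT⟩ := SetLike.not_le_iff_exists.1 hSH
    have hSle : (S : Subgroup G) ≤ H := fun s hs => by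
      by_cases h : s ∈ T
      · exact hTH h
      · exact (Subgroup.mul_mem_cancel_right _ hyH).1 (hTH (k.mul_mem_T hz₁ hz₂ hz hTS hs hy h hyT))
    have hCz : ∀ g : G, g * z = z * g → g ∈ normalizer ((S : Subgroup G) : Set G) := by
      refine fun g hg => hZ (mem_centralizer_iff.2 ?_)
      rintro x ⟨hx, hx2, hxS⟩
      rw [pow_two] at hx2
      by_cases hxT : x ∈ T
      · rcases k.swap_fixed hz₁ hz₂ hz (hS2 hy) hyT hxT hx2 (hxS y hy) with rfl | rfl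
        · simp
        · exact hg.symm
      · exfalso
        obtain ⟨e, -⟩ := k.swap_conj hz₁ hz₂ hz (hS2 hx) hxT
        rw [← hxS c₁ (hTS k.c_mem_T), mul_inv_cancel_right] at e
        exact k.c_ne e
    have hi := k.relIndex_T hz₁ hz₂ hz hTS hy hyT
    have hHK : ∀ K : Subgroup G, K.index = 2 → H ≤ K := fun K hK =>
      hH.trans ((closure_le _).2 fun g hg => SylowKernel.mem_of_odd hK hg)
    by_cases hx : ∃ x ∈ (S : Subgroup G), x ∉ T ∧ x * x = 1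
    · obtain ⟨x, hxS, hxT, hx2⟩ := hx
      rcases ThompsonTransfer.thompson_transfer (S : Subgroup G) T
          (by rw [← Nat.not_even_iff_odd, even_iff_two_dvd]; exact S.not_dvd_index) hi hx2 with
        ⟨M, -, hM2, hxM⟩ | ⟨g, hg⟩
      · exact hxM (hHK M hM2 (hSle hxS))
      obtain ⟨h, hh⟩ := k.invol_conj hz₁ hz₂ hz hg (by
          rw [show g * x * g⁻¹ * (g * x * g⁻¹) = g * (x * x) * g⁻¹ by group, hx2]
          group) (fun e => hxT (by rw [conj_eq_one_iff] at e; rw [e]; exact one_mem T))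
      rw [show h * (g * x * g⁻¹) * h⁻¹ = h * g * x * (h * g)⁻¹ by group] at hh
      rcases hh with e | e | e
      · exact k.not_conj_z hz₁ hz₂ hz hTS hCz hxS hxT e
      · exact k.not_conj_c hz₁ hz₂ hz hTS hCz hxS hxT e
      · exact k.symm.not_conj_c hz₂ hz₁ hz hTS hCz hxS hxT e
    · push Not at hx
      have hiff : ∀ s ∈ (S : Subgroup G), s ∈ T ↔ s * s * (s * s) = 1 := by
        refine fun s hs => ⟨fun h => ?_, fun h4 => ?_⟩
        · rcases k.sq_cases hz₁ hz₂ hz h with e | e <;> rw [e]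
          · exact mul_one 1
          · exact k.z_sq hz₁ hz₂ hz
        · by_contra hsT
          have h := k.sq_eq hz₁ hz₂ hz hTS hs (hx s hs hsT) h4
          obtain ⟨r, hrT, hsr, hr⟩ := k.exists_root hz₁ hz₂ hz (hS2 hs) hsT
          refine hx (s * r) (mul_mem hs (hTS hrT)) (fun h' => hsT ((Subgroup.mul_mem_cancel_right _ hrT).1 h')) ?_
          calc s * r * (s * r) = s * (r * s) * r := by group
            _ = s * s * (r * r) := by rw [← hsr]; group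
            _ = 1 := by rw [h, hr, k.z_sq hz₁ hz₂ hz]
      obtain ⟨K, -, hK2, hyK, -⟩ := SylowKernel.exists_kernel S T hi hy hyT fun j g hg => by
        rw [hiff _ hg, hiff _ (pow_mem hy j)]
        have e : g * y ^ j * g⁻¹ * (g * y ^ j * g⁻¹) * (g * y ^ j * g⁻¹ * (g * y ^ j * g⁻¹)) =
            g * (y ^ j * y ^ j * (y ^ j * y ^ j)) * g⁻¹ := by group
        rw [e, conj_eq_one_iff]
      exact hyK (hHK K hK2 hyH)

end Conf

end CfsgLib.CharTwoS4
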