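import Cfsg.Prelude.Def_CaseTheorems
import Mathlib.GroupTheory.SpecificGroups.Alternating
import Mathlib.GroupTheory.Perm.Fin
import Mathlib.GroupTheory.OrderOfElement
import Mathlib.Algebra.Group.Subgroup.Finite
import Mathlib.GroupTheory.Index
import Mathlib.Tactic.Group

/-!
# Subgroups with a symmetric quotient of degree four

Facts on `S₄` read off in a subgroup `P` of a group through a surjection `π : P →* S₄` with small
kernel and a subgroup `V` mapped onto the four-group.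
-/

set_option autoImplicit false

namespace CfsgLib.CharTwoS4

open Subgroup Equiv

/-- The four-group of `S₄`. -/
def InK (σ : Perm (Fin 4)) : Prop := σ * σ = 1 ∧ Perm.sign σ = 1

instance (σ : Perm (Fin 4)) : Decidable (InK σ) := by unfold InK; infer_instance

theorem inK_mul : ∀ a b : Perm (Fin 4), InK a → InK b → InK (a * b) ∧ a * b = b * a := by decide +kernel

theorem inK_conj {a : Perm (Fin 4)} (h : InK a) (s : Perm (Fin 4)) : InK (s * a * s⁻¹) := by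
  refine ⟨?_, ?_⟩
  · rw [show s * a * s⁻¹ * (s * a * s⁻¹) = s * (a * a) * s⁻¹ by group, h.1]; group
  · simp only [map_mul, map_inv, h.2]; simp

theorem inK_of_centralizes : ∀ σ : Perm (Fin 4), (∀ k, InK k → σ * k = k * σ) → InK σ := by decide +kernel

theorem inK_sq : ∀ σ : Perm (Fin 4), σ * σ * σ * σ = 1 → InK (σ * σ) ∧ (Perm.sign σ = 1 → InK σ) := by
  decide +kernel

theorem inK_trans : ∀ k k' : Perm (Fin 4), InK k → InK k' → k ≠ 1 → k' ≠ 1 →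
    ∃ σ : Perm (Fin 4), σ * σ * σ = 1 ∧ σ * k * σ⁻¹ = k' := by decide +kernel

theorem inK_gen : ∀ k : Perm (Fin 4), InK k → ∃ σ k' : Perm (Fin 4),
    σ * σ * σ = 1 ∧ InK k' ∧ k = σ * k' * σ⁻¹ * k'⁻¹ := by decide +kernel

theorem inK_fixed : ∀ a k k₁ : Perm (Fin 4), (InK k ∧ InK k₁ ∧ k₁ ≠ 1 ∧
    ¬ InK a ∧ a * a = 1 ∧ a * k = k * a ∧ a * k₁ = k₁ * a) → k = 1 ∨ k = k₁ := by decide +kernel

theorem inK_normal : ∀ σ : Perm (Fin 4), σ * σ * σ * σ = 1 → ¬ InK σ →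
    ∃ τ : Perm (Fin 4), (σ * (τ * σ * τ⁻¹)) * (σ * (τ * σ * τ⁻¹)) * (σ * (τ * σ * τ⁻¹)) *
      (σ * (τ * σ * τ⁻¹)) ≠ 1 := by decide +kernel

theorem card_inK : Nat.card {σ : Perm (Fin 4) // InK σ} = 4 := by
  rw [Nat.card_eq_fintype_card]; decide +kernel

theorem eq_top_of_three {Q : Subgroup (Perm (Fin 4))} (h3 : ∀ σ : Perm (Fin 4), σ * σ * σ = 1 → σ ∈ Q)
    {a : Perm (Fin 4)} (ha : a ∈ Q) (hs : Perm.sign a ≠ 1) : Q = ⊤ := by
  have halt : alternatingGroup (Fin 4) ≤ Q := by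
    rw [← Perm.closure_three_cycles_eq_alternating, closure_le]
    intro σ hσ
    refine h3 σ ?_
    have h := pow_orderOf_eq_one σ
    rw [Perm.IsThreeCycle.orderOf hσ] at h
    rw [← h]; simp [pow_succ]
  refine eq_top_iff.2 fun q _ => ?_
  rcases Int.units_eq_one_or (Perm.sign q) with hq | hq
  · exact halt (Perm.mem_alternatingGroup.2 hq)
  · have hmem : a⁻¹ * q ∈ Q := halt (Perm.mem_alternatingGroup.2 (by
      rw [map_mul, map_inv, hq, (Int.units_eq_one_or (Perm.sign a)).resolve_left hs]; decide))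
    simpa using mul_mem ha hmem

variable {G : Type*} [Group G]

/-- The elements of order dividing four. -/
theorem pow_four {g : G} : g ^ 4 = g * g * g * g := by
  simp [pow_succ]

/-- A subgroup `P` with a surjection onto `S₄` whose kernel consists of at most an involution, and a
subgroup `V` mapped isomorphically onto the four-group. -/
structure Sq (P V : Subgroup G) where
  /-- The projection. -/
  π : P →* Perm (Fin 4)
  surj : Function.Surjective π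
  ker_sq : ∀ p : P, π p = 1 → p * p = 1
  ker_central : ∀ p q : P, π p = 1 → p * q = q * p
  le : V ≤ P
  normal : P ≤ normalizer (V : Set G)
  map_mem : ∀ v : P, (v : G) ∈ V → InK (π v)
  lift : ∀ σ : Perm (Fin 4), InK σ → ∃ v : P, (v : G) ∈ V ∧ π v = σ
  inj : ∀ v : P, (v : G) ∈ V → π v = 1 → v = 1

namespace Sq

variable {P V : Subgroup G} (F : Sq P V)

include F

/-- The inverse image of the four-group. -/
def A : Subgroup G where
  carrier := {g | ∃ h : g ∈ P, InK (F.π ⟨g, h⟩)}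
  mul_mem' := by
    rintro a b ⟨ha, ha'⟩ ⟨hb, hb'⟩
    refine ⟨mul_mem ha hb, ?_⟩
    rw [show (⟨a * b, mul_mem ha hb⟩ : P) = ⟨a, ha⟩ * ⟨b, hb⟩ from rfl, map_mul]
    exact (inK_mul _ _ ha' hb').1
  one_mem' := ⟨one_mem P, by
    rw [show (⟨1, one_mem P⟩ : P) = 1 from rfl, map_one]; exact ⟨one_mul 1, map_one _⟩⟩
  inv_mem' := by
    rintro a ⟨ha, ha'⟩
    refine ⟨inv_mem ha, ?_⟩
    rw [show (⟨a⁻¹, inv_mem ha⟩ : P) = ⟨a, ha⟩⁻¹ from rfl, map_inv]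
    rwa [inv_eq_of_mul_eq_one_left ha'.1]

theorem mem_A {p : P} : (p : G) ∈ F.A ↔ InK (F.π p) :=
  ⟨fun ⟨_, h⟩ => h, fun h => ⟨p.2, h⟩⟩

theorem A_le : F.A ≤ P := fun _ h => h.1

theorem V_le_A : V ≤ F.A := fun v hv => ⟨F.le hv, F.map_mem ⟨v, F.le hv⟩ hv⟩

theorem A_normal : P ≤ normalizer (F.A : Set G) := by
  have key : ∀ p ∈ P, ∀ a ∈ F.A, p * a * p⁻¹ ∈ F.A := by
    rintro p hp a ⟨ha, ha'⟩
    refine ⟨mul_mem (mul_mem hp ha) (inv_mem hp), ?_⟩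
    rw [show (⟨p * a * p⁻¹, mul_mem (mul_mem hp ha) (inv_mem hp)⟩ : P) =
      ⟨p, hp⟩ * ⟨a, ha⟩ * ⟨p, hp⟩⁻¹ from rfl, map_mul, map_mul, map_inv]
    exact inK_conj ha' _
  intro p hp
  refine mem_normalizer_iff.2 fun a => ⟨key p hp a, fun h => ?_⟩
  have := key p⁻¹ (inv_mem hp) _ h
  simpa [mul_assoc] using this

theorem exists_lift_mem (p : P) (h : InK (F.π p)) : ∃ v : P, (v : G) ∈ V ∧ F.π (v⁻¹ * p) = 1 := by
  obtain ⟨v, hv, hvp⟩ := F.lift _ h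
  exact ⟨v, hv, by rw [map_mul, map_inv, hvp, inv_mul_cancel]⟩

theorem comm_A {a v : G} (ha : a ∈ F.A) (hv : v ∈ V) : a * v = v * a := by
  obtain ⟨haP, ha'⟩ := ha
  have hvP := F.le hv
  set x : P := ⟨a, haP⟩ * ⟨v, hvP⟩ * ⟨a, haP⟩⁻¹ * ⟨v, hvP⟩⁻¹
  have hx : (x : G) ∈ V :=
    mul_mem ((mem_normalizer_iff.1 (F.normal haP) v).1 hv) (inv_mem hv)
  have h1 : x = 1 := F.inj x hx (by
    simp only [x, map_mul, map_inv]
    rw [(inK_mul _ _ ha' (F.map_mem ⟨v, hvP⟩ hv)).2]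
    group)
  have h2 := congrArg Subtype.val h1
  have h3 : a * v * a⁻¹ * v⁻¹ = 1 := h2
  calc a * v = (a * v * a⁻¹ * v⁻¹) * (v * a) := by group
    _ = v * a := by rw [h3, one_mul]

theorem mem_A_of_centralizes {p : G} (hp : p ∈ P) (h : ∀ v ∈ V, p * v = v * p) : p ∈ F.A := by
  refine ⟨hp, inK_of_centralizes _ fun k hk => ?_⟩
  obtain ⟨v, hv, rfl⟩ := F.lift k hk
  rw [← map_mul, ← map_mul]
  exact congrArg F.π (Subtype.ext (h v hv))

theorem V_sq {v : G} (hv : v ∈ V) : v * v = 1 :=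
  congrArg Subtype.val (F.inj (⟨v, F.le hv⟩ * ⟨v, F.le hv⟩) (mul_mem hv hv) (by
    rw [map_mul]; exact (F.map_mem _ hv).1))

theorem A_sq {a : G} (ha : a ∈ F.A) : a * a = 1 := by
  obtain ⟨haP, ha'⟩ := id ha
  obtain ⟨v, hv, hk⟩ := F.exists_lift_mem _ ha'
  have h1 : (((v⁻¹ * ⟨a, haP⟩ : P)) : G) * ((v⁻¹ * ⟨a, haP⟩ : P) : G) = 1 :=
    congrArg Subtype.val (F.ker_sq _ hk)
  have hc : a * (v : G) = v * a := F.comm_A ha hv
  have hv2 := F.V_sq hv
  simp only [Subgroup.coe_mul, InvMemClass.coe_inv] at h1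
  calc a * a = (v : G) * v * ((v : G)⁻¹ * a * ((v : G)⁻¹ * a)) := by
        rw [show (v : G) * v * ((v : G)⁻¹ * a * ((v : G)⁻¹ * a)) = (v : G) * a * (v : G)⁻¹ * a by group,
          ← hc]
        group
    _ = 1 := by rw [h1, hv2, one_mul]

theorem A_comm {a b : G} (ha : a ∈ F.A) (hb : b ∈ F.A) : a * b = b * a := by
  have h := F.A_sq (mul_mem ha hb)
  calc a * b = (a * a) * (b * a) * (b * b) := by
        rw [F.A_sq ha, F.A_sq hb, one_mul, mul_one]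
        exact (eq_inv_of_mul_eq_one_left h).trans (by
          rw [mul_inv_rev, inv_eq_of_mul_eq_one_left (F.A_sq ha), inv_eq_of_mul_eq_one_left (F.A_sq hb)])
    _ = b * a := by rw [F.A_sq ha, F.A_sq hb, one_mul, mul_one]

theorem card_V [Finite G] : Nat.card V = 4 := by
  rw [← card_inK]
  refine Nat.card_congr (Equiv.ofBijective
    (fun v : V => (⟨F.π ⟨v, F.le v.2⟩, F.map_mem ⟨v, F.le v.2⟩ v.2⟩ : {σ // InK σ})) ⟨?_, ?_⟩)
  · intro u v h
    have h1 := F.inj (⟨u, F.le u.2⟩ * (⟨v, F.le v.2⟩ : P)⁻¹) (mul_mem u.2 (inv_mem v.2)) (by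
      have e : F.π ⟨u, F.le u.2⟩ = F.π ⟨v, F.le v.2⟩ := congrArg Subtype.val h
      rw [map_mul, map_inv, e]; exact mul_inv_cancel _)
    have h2 : (⟨u, F.le u.2⟩ : P) = ⟨v, F.le v.2⟩ := mul_inv_eq_one.1 h1
    exact Subtype.ext (show (u : G) = v from congrArg (fun x : P => (x : G)) h2)
  · rintro ⟨σ, hσ⟩
    obtain ⟨v, hv, hvs⟩ := F.lift σ hσ
    exact ⟨⟨v, hv⟩, Subtype.ext hvs⟩

theorem V_ne_bot [Finite G] : V ≠ ⊥ := fun h => by
  have := F.card_V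
  rw [h, card_bot] at this
  omega

/-- Preimages of elements of order three. -/
theorem exists_three {σ : Perm (Fin 4)} (h : σ * σ * σ = 1) :
    ∃ p : P, (p : G) ^ 3 = 1 ∧ F.π p = σ := by
  obtain ⟨p, rfl⟩ := F.surj σ
  refine ⟨p ^ 4, ?_, ?_⟩
  · have hk := F.ker_sq (p ^ 3) (by rw [map_pow, ← h]; simp [pow_succ])
    rw [← SubmonoidClass.coe_pow, ← pow_mul, show 4 * 3 = 3 * 2 * 2 by rfl, pow_mul, pow_mul,
      pow_two (p ^ 3), hk, one_pow, OneMemClass.coe_one]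
  · rw [map_pow, pow_succ, show F.π p ^ 3 = 1 by rw [← h]; simp [pow_succ], one_mul]

theorem trans {v v' : G} (hv : v ∈ V) (hv' : v' ∈ V) (h1 : v ≠ 1) (h1' : v' ≠ 1) :
    ∃ p ∈ P, p ^ 3 = 1 ∧ p * v * p⁻¹ = v' := by
  have hne : ∀ u : G, ∀ hu : u ∈ V, u ≠ 1 → F.π ⟨u, F.le hu⟩ ≠ 1 := fun u hu h1 h =>
    h1 (congrArg Subtype.val (F.inj _ hu h))
  obtain ⟨σ, hσ, hc⟩ := inK_trans _ _ (F.map_mem ⟨v, F.le hv⟩ hv) (F.map_mem ⟨v', F.le hv'⟩ hv')
    (hne v hv h1) (hne v' hv' h1')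
  obtain ⟨p, hp, rfl⟩ := F.exists_three hσ
  refine ⟨p, p.2, hp, ?_⟩
  have h2 := F.inj (p * ⟨v, F.le hv⟩ * p⁻¹ * (⟨v', F.le hv'⟩ : P)⁻¹)
    (mul_mem ((mem_normalizer_iff.1 (F.normal p.2) v).1 hv) (inv_mem hv')) (by
      simp only [map_mul, map_inv]; rw [hc, mul_inv_cancel])
  exact congrArg Subtype.val (mul_inv_eq_one.1 h2)

/-- The four-group lies in every normal subgroup containing the elements of order three. -/
theorem V_le_of_three {H : Subgroup G} [H.Normal] (h3 : ∀ p ∈ P, p ^ 3 = 1 → p ∈ H) : V ≤ H := by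
  intro v hv
  obtain ⟨σ, k', hσ, hk', he⟩ := inK_gen _ (F.map_mem ⟨v, F.le hv⟩ hv)
  obtain ⟨p, hp, rfl⟩ := F.exists_three hσ
  obtain ⟨u, hu, rfl⟩ := F.lift k' hk'
  have h2 := F.inj (⟨v, F.le hv⟩ * (p * u * p⁻¹ * u⁻¹)⁻¹)
    (mul_mem hv (inv_mem (mul_mem ((mem_normalizer_iff.1 (F.normal p.2) u).1 hu) (inv_mem hu)))) (by
      simp only [map_mul, map_inv]; rw [he, mul_inv_cancel])
  have h4 : v = (p : G) * u * (p : G)⁻¹ * (u : G)⁻¹ := congrArg Subtype.val (mul_inv_eq_one.1 h2)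
  rw [h4, show (p : G) * u * (p : G)⁻¹ * (u : G)⁻¹ = (p : G) * ((u : G) * (p : G)⁻¹ * (u : G)⁻¹) by group]
  exact mul_mem (h3 p p.2 hp) (Normal.conj_mem inferInstance _ (inv_mem (h3 p p.2 hp)) _)

end Sq

end CfsgLib.CharTwoS4
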