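import Cfsg.Agent.CharTwoS4.Model
import Cfsg.Agent.LocalB.JTwo

/-!
# Two maximal 2-locals of type `S₄` or `S₄ × 2` sharing a Sylow 2-subgroup
-/

set_option autoImplicit false

namespace CfsgLib.CharTwoS4

open Subgroup Equiv Cfsg

variable {G : Type*} [Group G] [Finite G]

theorem inK_eight : ∀ σ : Perm (Fin 4), σ * σ * σ * σ * (σ * σ * σ * σ) = 1 → σ * σ * σ * σ = 1 := by
  decide +kernel

/-- The pair of subgroups. -/
structure Pair (T P₁ V₁ P₂ V₂ : Subgroup G) where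
  F₁ : Sq P₁ V₁
  F₂ : Sq P₂ V₂
  max₁ : IsMaximalTwoLocal P₁
  max₂ : IsMaximalTwoLocal P₂
  ne : P₁ ≠ P₂
  syl₁ : IsSylowTwoIn T P₁
  syl₂ : IsSylowTwoIn T P₂
  idx₁ : T.relIndex P₁ = 3
  idx₂ : T.relIndex P₂ = 3

/-- The pair in the other order. -/
def Pair.symm {T P₁ V₁ P₂ V₂ : Subgroup G} (d : Pair T P₁ V₁ P₂ V₂) : Pair T P₂ V₂ P₁ V₁ where
  F₁ := d.F₂
  F₂ := d.F₁
  max₁ := d.max₂
  max₂ := d.max₁
  ne := d.ne.symm
  syl₁ := d.syl₂
  syl₂ := d.syl₁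
  idx₁ := d.idx₂
  idx₂ := d.idx₁

theorem isPGroup_of_sq {A : Subgroup G} (h : ∀ a ∈ A, a * a = 1) : IsPGroup 2 A :=
  fun a => ⟨1, Subtype.ext (by rw [pow_one, pow_two]; exact h a a.2)⟩

theorem normalizer_eq_of_max {P Q : Subgroup G} (hP : IsMaximalTwoLocal P) (hQ : IsPGroup 2 Q)
    (hne : Q ≠ ⊥) (hle : P ≤ normalizer (Q : Set G)) : normalizer (Q : Set G) = P :=
  hP.2 _ ⟨Q, hQ, hne, rfl⟩ hle

theorem le_sylow_of_normal {T P Q : Subgroup G} (hT : IsSylowTwoIn T P) (hQ : IsPGroup 2 Q)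
    (hQP : Q ≤ P) (hn : P ≤ normalizer (Q : Set G)) : Q ≤ T := by
  haveI : Fact (Nat.Prime 2) := ⟨Nat.prime_two⟩
  have hj : IsPGroup 2 ↥(T ⊔ Q) := hT.2.1.to_sup_of_normal_right' hQ (hT.1.trans hn)
  obtain ⟨k, hk⟩ := IsPGroup.iff_card.1 hj
  have h2 : T.relIndex (T ⊔ Q) ∣ T.relIndex P :=
    Dvd.intro _ (relIndex_mul_relIndex T (T ⊔ Q) P le_sup_left (sup_le hT.1 hQP))
  have h3 : T.relIndex (T ⊔ Q) ∣ 2 ^ k := hk ▸ index_dvd_card _
  have h1 : T.relIndex (T ⊔ Q) = 1 := by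
    obtain ⟨j, -, hj'⟩ := (Nat.dvd_prime_pow Nat.prime_two).1 h3
    rcases j with _ | j
    · simpa using hj'
    · exfalso
      obtain ⟨r, hr⟩ := hT.2.2
      have h4 : 2 ∣ T.relIndex P := dvd_trans ⟨2 ^ j, by rw [hj', pow_succ, mul_comm]⟩ h2
      omega
  exact le_sup_right.trans (relIndex_eq_one.1 h1)

theorem card_eq_three_mul {T P : Subgroup G} (h : T ≤ P) (hi : T.relIndex P = 3) :
    Nat.card P = 3 * Nat.card T := by
  have := relIndex_mul_relIndex ⊥ T P bot_le h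
  rw [relIndex_bot_left, relIndex_bot_left, hi] at this
  omega

namespace Pair

variable {T P₁ V₁ P₂ V₂ : Subgroup G} (d : Pair T P₁ V₁ P₂ V₂)

include d

theorem normalizer_V : normalizer (V₁ : Set G) = P₁ :=
  normalizer_eq_of_max d.max₁ (isPGroup_of_sq fun _ h => d.F₁.V_sq h) d.F₁.V_ne_bot d.F₁.normal

theorem A_isPGroup : IsPGroup 2 d.F₁.A := isPGroup_of_sq fun _ h => d.F₁.A_sq h

theorem normalizer_A : normalizer (d.F₁.A : Set G) = P₁ :=
  normalizer_eq_of_max d.max₁ d.A_isPGroup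
    (fun h => d.F₁.V_ne_bot (le_bot_iff.1 (h ▸ d.F₁.V_le_A))) d.F₁.A_normal

theorem A_le_T : d.F₁.A ≤ T :=
  le_sylow_of_normal d.syl₁ d.A_isPGroup d.F₁.A_le d.F₁.A_normal

theorem V_le_T : V₁ ≤ T := d.F₁.V_le_A.trans d.A_le_T

theorem inf_eq : P₁ ⊓ P₂ = T := by
  refine le_antisymm ?_ (le_inf d.syl₁.1 d.syl₂.1)
  have h := relIndex_mul_relIndex T (P₁ ⊓ P₂) P₁ (le_inf d.syl₁.1 d.syl₂.1) inf_le_left
  rw [d.idx₁] at h
  rcases (Nat.dvd_prime Nat.prime_three).1 (Dvd.intro _ h) with h1 | h1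
  · exact relIndex_eq_one.1 h1
  · exfalso
    rw [h1] at h
    have h2 : (P₁ ⊓ P₂).relIndex P₁ = 1 := by omega
    refine d.ne (eq_of_le_of_card_ge ((relIndex_eq_one.1 h2).trans inf_le_right) ?_)
    rw [card_eq_three_mul d.syl₁.1 d.idx₁, card_eq_three_mul d.syl₂.1 d.idx₂]

theorem A_ne : d.F₁.A ≠ d.F₂.A := fun h => d.ne (by
  rw [← d.normalizer_A, h]
  exact d.symm.normalizer_A)

theorem not_V_le : ¬ V₂ ≤ d.F₁.A := by
  intro h
  refine d.A_ne (eq_of_le_of_card_ge (fun a ha => ?_) ?_)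
  · exact d.F₂.mem_A_of_centralizes (d.syl₂.1 (d.A_le_T ha)) fun v hv => d.F₁.A_comm ha (h hv)
  · by_contra hlt
    rw [not_le] at hlt
    have hle : d.F₁.A ≤ d.F₂.A := fun a ha =>
      d.F₂.mem_A_of_centralizes (d.syl₂.1 (d.A_le_T ha)) fun v hv => d.F₁.A_comm ha (h hv)
    have h2 : normalizer (d.F₁.A : Set G) = P₂ := by
      refine normalizer_eq_of_max d.max₂ d.A_isPGroup
        (fun h => d.F₁.V_ne_bot (le_bot_iff.1 (h ▸ d.F₁.V_le_A))) ?_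
      -- a subgroup between `V₂` and the inverse image of the four-group is normal
      intro p hp
      refine mem_normalizer_iff.2 ?_
      have key : ∀ q ∈ P₂, ∀ a ∈ d.F₁.A, q * a * q⁻¹ ∈ d.F₁.A := by
        intro q hq a ha
        obtain ⟨haP, ha'⟩ := hle ha
        obtain ⟨v, hv, hk⟩ := d.F₂.exists_lift_mem _ ha'
        have hc : q * ((v : G)⁻¹ * a) * q⁻¹ = (v : G)⁻¹ * a := by
          have := congrArg Subtype.val (d.F₂.ker_central _ ⟨q, hq⟩ hk)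
          simp only [Subgroup.coe_mul, InvMemClass.coe_inv] at this
          rw [← this]; group
        rw [show q * a * q⁻¹ = (q * (v : G) * q⁻¹) * (q * ((v : G)⁻¹ * a) * q⁻¹) by group, hc]
        exact mul_mem (h ((mem_normalizer_iff.1 (d.F₂.normal hq) v).1 hv))
          (mul_mem (inv_mem (h hv)) ha)
      refine fun a => ⟨key p hp a, fun ha => ?_⟩
      have := key p⁻¹ (inv_mem hp) _ ha
      simpa [mul_assoc] using this
    rw [d.normalizer_A] at h2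
    exact d.ne h2

theorem exists_w : ∃ w ∈ V₂, w ∈ T ∧ w ∉ d.F₁.A := by
  obtain ⟨w, hw, hwA⟩ := SetLike.not_le_iff_exists.1 d.not_V_le
  exact ⟨w, hw, d.symm.V_le_T hw, hwA⟩

theorem pi_pow_four (t : P₁) (ht : (t : G) ∈ T) :
    d.F₁.π t * d.F₁.π t * d.F₁.π t * d.F₁.π t = 1 := by
  obtain ⟨k, hk⟩ := d.syl₁.2.1 ⟨t, ht⟩
  have hk' : t ^ 2 ^ k = 1 := Subtype.ext (by simpa using congrArg Subtype.val hk)
  have h1 : d.F₁.π t ^ 2 ^ k = 1 := by rw [← map_pow, hk', map_one]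
  have h2 : d.F₁.π t ^ 24 = 1 := by
    have := pow_card_eq_one' (x := d.F₁.π t)
    rwa [Nat.card_eq_fintype_card, Fintype.card_perm, Fintype.card_fin] at this
  refine inK_eight _ ?_
  have h8 : d.F₁.π t ^ 8 = 1 := by
    refine orderOf_dvd_iff_pow_eq_one.1 ?_
    have hg := Nat.dvd_gcd (orderOf_dvd_of_pow_eq_one h1) (orderOf_dvd_of_pow_eq_one h2)
    obtain ⟨j, -, hj⟩ := (Nat.dvd_prime_pow Nat.prime_two).1 (hg.trans (Nat.gcd_dvd_left _ _))
    rw [hj] at hg ⊢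
    have h24 : 2 ^ j ∣ 3 * 8 := hg.trans (Nat.gcd_dvd_right _ _)
    exact ((Nat.Coprime.pow_left j (by norm_num : Nat.Coprime 2 3))).dvd_of_dvd_mul_left h24
  rw [← h8]
  simp [pow_succ, mul_assoc]

theorem sign_ne_one (t : P₁) (ht : (t : G) ∈ T) (htA : (t : G) ∉ d.F₁.A) :
    Perm.sign (d.F₁.π t) ≠ 1 := fun h =>
  htA (d.F₁.mem_A.2 ((inK_sq _ (d.pi_pow_four t ht)).2 h))

/-- `A₁` has index two in `T`. -/
theorem mul_mem_A {s t : G} (hs : s ∈ T) (ht : t ∈ T) (hsA : s ∉ d.F₁.A) (htA : t ∉ d.F₁.A) :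
    s * t ∈ d.F₁.A := by
  have h := d.sign_ne_one ⟨s, d.syl₁.1 hs⟩ hs hsA
  have h' := d.sign_ne_one ⟨t, d.syl₁.1 ht⟩ ht htA
  refine d.F₁.mem_A.2 ((inK_sq (d.F₁.π (⟨s, d.syl₁.1 hs⟩ * ⟨t, d.syl₁.1 ht⟩))
    (d.pi_pow_four _ (mul_mem hs ht))).2 ?_)
  rw [map_mul, map_mul, (Int.units_eq_one_or _).resolve_left h, (Int.units_eq_one_or _).resolve_left h']
  decide

variable {H : Subgroup G} [H.Normal]

theorem mem_H_of_three (h3 : ∀ g : G, Odd (orderOf g) → g ∈ H) {g : G} (hg : g ^ 3 = 1) : g ∈ H := by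
  refine h3 g ?_
  rcases (Nat.dvd_prime Nat.prime_three).1 (orderOf_dvd_of_pow_eq_one hg) with h | h <;> rw [h] <;> decide

theorem V_le_H (h3 : ∀ g : G, Odd (orderOf g) → g ∈ H) : V₁ ≤ H :=
  d.F₁.V_le_of_three fun _ _ h => mem_H_of_three d h3 h

theorem surj_inf (h3 : ∀ g : G, Odd (orderOf g) → g ∈ H) (σ : Perm (Fin 4)) :
    ∃ x : P₁, (x : G) ∈ H ∧ d.F₁.π x = σ := by
  have htop : (H.subgroupOf P₁).map d.F₁.π = ⊤ := by
    obtain ⟨w, hw, hwT, hwA⟩ := d.exists_w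
    refine eq_top_of_three (fun τ hτ => ?_)
      (⟨⟨w, d.syl₁.1 hwT⟩, d.symm.V_le_H h3 hw, rfl⟩) (d.sign_ne_one ⟨w, d.syl₁.1 hwT⟩ hwT hwA)
    obtain ⟨p, hp, rfl⟩ := d.F₁.exists_three hτ
    exact ⟨p, mem_H_of_three d h3 hp, rfl⟩
  obtain ⟨x, hx, rfl⟩ := mem_map.1 (htop ▸ mem_top σ : σ ∈ (H.subgroupOf P₁).map d.F₁.π)
  exact ⟨x, hx, rfl⟩

/-- The isomorphism type of `P₁ ∩ H`. -/
theorem inf_equiv (h3 : ∀ g : G, Odd (orderOf g) → g ∈ H)
    (hker : ∀ p : P₁, d.F₁.π p = 1 → (p : G) ∈ H → p = 1) :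
    Nonempty (P₁.subgroupOf H ≃* Perm (Fin 4)) := by
  let f : P₁.subgroupOf H →* Perm (Fin 4) :=
    d.F₁.π.comp ((H.subtype.comp (P₁.subgroupOf H).subtype).codRestrict P₁ fun x => x.2)
  refine ⟨MulEquiv.ofBijective f ⟨(injective_iff_map_eq_one f).2 fun x hx => ?_, fun σ => ?_⟩⟩
  · have h := hker ⟨((x : H) : G), x.2⟩ hx (x : H).2
    exact Subtype.ext (Subtype.ext (show ((x : H) : G) = 1 from congrArg (fun p : P₁ => (p : G)) h))
  · obtain ⟨x, hxH, rfl⟩ := d.surj_inf h3 σ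
    exact ⟨⟨⟨x, hxH⟩, x.2⟩, rfl⟩

theorem inf_ne (h3 : ∀ g : G, Odd (orderOf g) → g ∈ H) : P₁.subgroupOf H ≠ P₂.subgroupOf H := by
  intro he
  have hX : P₁ ⊓ H ≤ T := by
    rintro x ⟨hx1, hxH⟩
    rw [← d.inf_eq]
    refine ⟨hx1, ?_⟩
    have : (⟨x, hxH⟩ : H) ∈ P₁.subgroupOf H := hx1
    rw [he] at this
    exact this
  obtain ⟨x, hxH, hx⟩ := d.surj_inf h3 (Equiv.swap 0 1 * Equiv.swap 1 2)
  have h := d.pi_pow_four x (hX ⟨x.2, hxH⟩)
  rw [hx] at h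
  revert h
  decide

theorem inf_maximal (h3 : ∀ g : G, Odd (orderOf g) → g ∈ H)
    (hker : ∀ p : P₁, d.F₁.π p = 1 → (p : G) ∈ H → p = 1) :
    IsMaximalTwoLocal (P₁.subgroupOf H) := by
  haveI : Fact (Nat.Prime 2) := ⟨Nat.prime_two⟩
  have hVH := d.V_le_H h3
  have hVp : IsPGroup 2 V₁ := isPGroup_of_sq fun _ h => d.F₁.V_sq h
  have hnV : normalizer ((V₁.subgroupOf H : Subgroup H) : Set H) = P₁.subgroupOf H := by
    rw [← Subgroup.subgroupOf_normalizer_eq hVH, d.normalizer_V]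
  refine ⟨⟨_, hVp.comap_subtype, fun h => d.F₁.V_ne_bot ?_, hnV.symm⟩, ?_⟩
  · rw [← map_subgroupOf_eq_of_le hVH]
    exact (congrArg (map H.subtype) h).trans (Subgroup.map_bot _)
  rintro _ ⟨W₀, hW₀, hW₀ne, rfl⟩ hle
  set W := W₀.map H.subtype with hWdef
  have hW0 : W₀ = W.subgroupOf H :=
    (comap_map_eq_self_of_injective H.subtype_injective W₀).symm
  have hWH : W ≤ H := map_subtype_le W₀
  have hWne : W ≠ ⊥ := by
    rwa [hWdef, Ne, map_eq_bot_iff_of_injective _ H.subtype_injective]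
  have hWp : IsPGroup 2 W := hW₀.map _
  have hnW : normalizer ((W₀ : Subgroup H) : Set H) = (normalizer (W : Set G)).subgroupOf H := by
    rw [hW0, Subgroup.subgroupOf_normalizer_eq hWH]
  have hX : ∀ x ∈ P₁, x ∈ H → x ∈ normalizer (W : Set G) := by
    intro x hx hxH
    have := hle (show (⟨x, hxH⟩ : H) ∈ P₁.subgroupOf H from hx)
    rw [hnW] at this
    exact this
  obtain ⟨x, hxW, hx1, hxc⟩ := CfsgLib.JComp.exists_fixed_point hWp hVp
    (fun v hv => hX v (d.F₁.le hv) (hVH hv)) hWne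
  have hxP : x ∈ P₁ := by
    rw [← d.normalizer_V]
    refine mem_normalizer_iff.2 fun v => ?_
    have hc : ∀ u ∈ V₁, x * u * x⁻¹ = u := fun u hu => by
      rw [← mem_centralizer_iff.1 hxc u hu, mul_inv_cancel_right]
    refine ⟨fun hv => by rwa [hc v hv], fun hv => ?_⟩
    have h := hc _ hv
    have h2 : x * v * x⁻¹ = v := mul_left_cancel (mul_right_cancel h)
    rwa [h2] at hv
  -- `W ∩ P₁` consists of elements over the four-group
  have hN : ∀ y : P₁, (y : G) ∈ W → (y : G) ∈ V₁ := by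
    intro y hy
    have hfour : ∀ z : P₁, (z : G) ∈ W → d.F₁.π z * d.F₁.π z * d.F₁.π z * d.F₁.π z = 1 := by
      intro z hz
      obtain ⟨k, hk⟩ := hWp ⟨z, hz⟩
      have hk' : z ^ 2 ^ k = 1 := Subtype.ext (by simpa using congrArg Subtype.val hk)
      have h1 : d.F₁.π z ^ 2 ^ k = 1 := by rw [← map_pow, hk', map_one]
      have h2 : d.F₁.π z ^ 24 = 1 := by
        have := pow_card_eq_one' (x := d.F₁.π z)
        rwa [Nat.card_eq_fintype_card, Fintype.card_perm, Fintype.card_fin] at this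
      refine inK_eight _ ?_
      have hg := Nat.dvd_gcd (orderOf_dvd_of_pow_eq_one h1) (orderOf_dvd_of_pow_eq_one h2)
      obtain ⟨j, -, hj⟩ := (Nat.dvd_prime_pow Nat.prime_two).1 (hg.trans (Nat.gcd_dvd_left _ _))
      rw [hj] at hg
      have h24 : 2 ^ j ∣ 3 * 8 := hg.trans (Nat.gcd_dvd_right _ _)
      have h8 : d.F₁.π z ^ 8 = 1 := orderOf_dvd_iff_pow_eq_one.1 (hj ▸
        (Nat.Coprime.pow_left j (by norm_num : Nat.Coprime 2 3)).dvd_of_dvd_mul_left h24)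
      rw [← h8]
      simp [pow_succ, mul_assoc]
    have hy' : InK (d.F₁.π y) := by
      by_contra hK
      obtain ⟨τ, hτ⟩ := inK_normal _ (hfour y hy) hK
      obtain ⟨q, hqH, rfl⟩ := d.surj_inf h3 τ
      refine hτ ?_
      have hm : ((y * (q * y * q⁻¹) : P₁) : G) ∈ W :=
        mul_mem hy ((mem_normalizer_iff.1 (hX q q.2 hqH) y).1 hy)
      have := hfour _ hm
      simpa only [map_mul, map_inv] using this
    obtain ⟨v, hv, hk⟩ := d.F₁.exists_lift_mem y hy'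
    have h := hker _ hk (mul_mem (inv_mem (hVH hv)) (hWH hy))
    rw [inv_mul_eq_one] at h
    rwa [← h]
  have hxV : x ∈ V₁ := hN ⟨x, hxP⟩ hxW
  have hVW : V₁ ≤ W := by
    intro v hv
    rcases eq_or_ne v 1 with rfl | hv1
    · exact one_mem W
    obtain ⟨p, hp, hp3, rfl⟩ := d.F₁.trans hxV hv hx1 hv1
    exact (mem_normalizer_iff.1 (hX p hp (mem_H_of_three d h3 hp3)) x).1 hxW
  have hWV : W = V₁ := by
    by_contra hne
    obtain ⟨u, huW, hun, huV⟩ := LocalB.exists_mem_normalizer_not_mem hWp hVW (Ne.symm hne)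
    rw [d.normalizer_V] at hun
    exact huV (hN ⟨u, hun⟩ huW)
  rw [hnW, hWV, d.normalizer_V]

theorem card_inf (h3 : ∀ g : G, Odd (orderOf g) → g ∈ H)
    (hker : ∀ p : P₁, d.F₁.π p = 1 → (p : G) ∈ H → p = 1) :
    Nat.card ↥(P₁.subgroupOf H ⊓ P₂.subgroupOf H) = 8 := by
  have he : P₁.subgroupOf H ⊓ P₂.subgroupOf H = T.subgroupOf H := by
    rw [← d.inf_eq]; exact comap_inf _ _ _ |>.symm
  rw [he]
  obtain ⟨e⟩ := d.inf_equiv h3 hker
  have hc : Nat.card (P₁.subgroupOf H) = 24 := by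
    rw [Nat.card_congr e.toEquiv, Nat.card_eq_fintype_card, Fintype.card_perm, Fintype.card_fin]
    rfl
  have hle : T.subgroupOf H ≤ P₁.subgroupOf H := fun x hx => d.syl₁.1 hx
  have hp : IsPGroup 2 (T.subgroupOf H) := d.syl₁.2.1.comap_subtype
  obtain ⟨k, hk⟩ := IsPGroup.iff_card.1 hp
  have h24 : Nat.card (T.subgroupOf H) ∣ 24 := hc ▸ card_dvd_of_le hle
  obtain ⟨w, hw, hwT, hwA⟩ := d.exists_w
  have hVT : V₁.subgroupOf H ≤ T.subgroupOf H := fun x hx => d.V_le_T hx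
  have h4 : Nat.card (V₁.subgroupOf H) = 4 := by
    rw [Nat.card_congr (subgroupOfEquivOfLe (d.V_le_H h3)).toEquiv, d.F₁.card_V]
  have hne : V₁.subgroupOf H ≠ T.subgroupOf H := fun he' => hwA (d.F₁.V_le_A (by
    have : (⟨w, d.symm.V_le_H h3 hw⟩ : H) ∈ T.subgroupOf H := hwT
    rw [← he'] at this
    exact this))
  have hlt : 4 < Nat.card (T.subgroupOf H) := by
    refine lt_of_le_of_ne (h4 ▸ card_le_of_le hVT) fun h => hne ?_
    exact eq_of_le_of_card_ge hVT (by rw [h4, h])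
  rw [hk] at h24 hlt ⊢
  have hk8 : 2 ^ k ∣ 3 * 8 := h24
  have h8 := Nat.le_of_dvd (by norm_num)
    ((Nat.Coprime.pow_left k (by norm_num : Nat.Coprime 2 3)).dvd_of_dvd_mul_left hk8)
  rcases k with _ | _ | _ | _ | k <;> norm_num at *
  have : 0 < 2 ^ k := pow_pos (by norm_num) k
  rw [pow_succ, pow_succ, pow_succ, pow_succ] at h8
  omega

end Pair

end CfsgLib.CharTwoS4
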