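import Cfsg.Agent.S2858
import Cfsg.Agent.ZJ.DihedralSection
import Cfsg.Agent.PLocal.Thompson
import Cfsg.Agent.Solvable.Fitting
import Mathlib.GroupTheory.SpecificGroups.Dihedral

/-!
# A maximal subgroup with dihedral quotient whose Sylow 2-normalizer is not inside it
-/

set_option autoImplicit false

namespace CfsgLib.SimsDihedral

open Subgroup Cfsg

variable {H : Type*} [Group H] [Finite H]

theorem conj_inv_eq (a v : H) : (a * v * a⁻¹)⁻¹ = a * v⁻¹ * a⁻¹ := by group

theorem rot_ne {q : ℕ} [Fact q.Prime] (hq2 : q ≠ 2) {k : ZMod q} (hk : k ≠ 0) : (2 : ZMod q) * k ≠ 0 := by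
  refine mul_ne_zero (fun h => ?_) hk
  have h' : ((2 : ℕ) : ZMod q) = 0 := by exact_mod_cast h
  rw [ZMod.natCast_eq_zero_iff] at h'
  exact hq2 ((Nat.prime_dvd_prime_iff_eq Fact.out Nat.prime_two).1 h')

/-- Two transvections generate, modulo the centralizer, a group of exponent dividing 3 or 4. -/
theorem transvection_pair {V : Subgroup H} (hVc : ∀ u ∈ V, ∀ v ∈ V, u * v = v * u)
    (hV2 : ∀ v ∈ V, v * v = 1) {a b r s : H} (hr : r ∈ V) (hs : s ∈ V)
    (har : a * r * a⁻¹ = r) (hbs : b * s * b⁻¹ = s)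
    (ha : ∀ v ∈ V, a * v * a⁻¹ = v ∨ a * v * a⁻¹ = v * r)
    (hb : ∀ v ∈ V, b * v * b⁻¹ = v ∨ b * v * b⁻¹ = v * s) :
    (∀ v ∈ V, (a * b) ^ 3 * v * ((a * b) ^ 3)⁻¹ = v) ∨
      ∀ v ∈ V, (a * b) ^ 4 * v * ((a * b) ^ 4)⁻¹ = v := by
  set φ := MulAut.conj (a * b)
  have hφ : ∀ v, φ v = a * (b * v * b⁻¹) * a⁻¹ := fun v => by simp [φ, mul_assoc]
  have hmv : ∀ u v, φ (u * v) = φ u * φ v := map_mul φ
  have h3 : ∀ v, (a * b) ^ 3 * v * ((a * b) ^ 3)⁻¹ = φ (φ (φ v)) := fun v => by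
    simp [φ, pow_succ, mul_assoc]
  have h4 : ∀ v, (a * b) ^ 4 * v * ((a * b) ^ 4)⁻¹ = φ (φ (φ (φ v))) := fun v => by
    simp [φ, pow_succ, mul_assoc]
  simp only [h3, h4]
  have hmul : ∀ u v, a * (u * v) * a⁻¹ = (a * u * a⁻¹) * (a * v * a⁻¹) := fun u v => by group
  have hstep : ∀ v ∈ V, ∃ w, (w = 1 ∨ w = r ∨ w = s ∨ w = r * s) ∧ φ v = v * w := by
    intro v hv
    have hcase : φ v = a * v * a⁻¹ ∨ φ v = (a * v * a⁻¹) * (a * s * a⁻¹) := by
      rcases hb v hv with e | e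
      · exact Or.inl (by rw [hφ, e])
      · exact Or.inr (by rw [hφ, e, hmul])
    rcases hcase with e | e <;> rw [e] <;> rcases ha v hv with e' | e' <;> rw [e']
    · exact ⟨1, Or.inl rfl, (mul_one v).symm⟩
    · exact ⟨r, Or.inr (Or.inl rfl), rfl⟩
    · rcases ha s hs with e'' | e'' <;> rw [e'']
      · exact ⟨s, Or.inr (Or.inr (Or.inl rfl)), rfl⟩
      · exact ⟨r * s, Or.inr (Or.inr (Or.inr rfl)), by rw [hVc r hr s hs]⟩
    · rcases ha s hs with e'' | e'' <;> rw [e'']
      · exact ⟨r * s, Or.inr (Or.inr (Or.inr rfl)), by group⟩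
      · refine ⟨s, Or.inr (Or.inr (Or.inl rfl)), ?_⟩
        calc v * r * (s * r) = v * (r * s * r) := by group
          _ = v * s := by rw [hVc r hr s hs, mul_assoc s r r, hV2 r hr, mul_one]
  have hrs : r * s ∈ V := mul_mem hr hs
  have hwV : ∀ w, w = 1 ∨ w = r ∨ w = s ∨ w = r * s → w ∈ V := by
    rintro w (rfl | rfl | rfl | rfl)
    exacts [one_mem V, hr, hs, hrs]
  rcases ha s hs with e | e
  · -- `a` fixes `s`
    have hφs : φ s = s := by rw [hφ, hbs, e]
    have hφr : φ r = r ∨ φ r = r * s := by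
      rcases hb r hr with f | f
      · exact Or.inl (by rw [hφ, f, har])
      · exact Or.inr (by rw [hφ, f, hmul, har, e])
    have h2 : ∀ w, w = 1 ∨ w = r ∨ w = s ∨ w = r * s → φ (φ w) = w := by
      have h2r : φ (φ r) = r := by
        rcases hφr with f | f
        · rw [f, f]
        · rw [f, hmv, f, hφs, mul_assoc, hV2 s hs, mul_one]
      rintro w (rfl | rfl | rfl | rfl)
      · rw [map_one, map_one]
      · exact h2r
      · rw [hφs, hφs]
      · rw [hmv, hmv, h2r, hφs, hφs]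
    refine Or.inr fun v hv => ?_
    obtain ⟨w, hw, hvw⟩ := hstep v hv
    have hw' : φ w ∈ V := by
      rcases hw with rfl | rfl | rfl | rfl
      · rw [map_one]; exact one_mem V
      · rcases hφr with f | f <;> rw [f] <;> assumption
      · rw [hφs]; exact hs
      · rw [hmv, hφs]
        rcases hφr with f | f <;> rw [f] <;> first | exact hrs | exact mul_mem hrs hs
    have hu : φ (φ v) = v * (w * φ w) := by rw [hvw, hmv, hvw, mul_assoc]
    rw [hu, hmv, hmv, hu, hmv, hmv, h2 w hw, mul_assoc,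
      hV2 _ (mul_mem (hwV w hw) hw'), mul_one]
  · rcases hb r hr with f | f
    · -- `b` fixes `r`
      have hφr : φ r = r := by rw [hφ, f, har]
      have hφs : φ s = s * r := by rw [hφ, hbs, e]
      have h2 : ∀ w, w = 1 ∨ w = r ∨ w = s ∨ w = r * s → φ (φ w) = w := by
        have h2s : φ (φ s) = s := by rw [hφs, hmv, hφs, hφr, mul_assoc, hV2 r hr, mul_one]
        rintro w (rfl | rfl | rfl | rfl)
        · rw [map_one, map_one]
        · rw [hφr, hφr]
        · exact h2s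
        · rw [hmv, hmv, h2s, hφr, hφr]
      refine Or.inr fun v hv => ?_
      obtain ⟨w, hw, hvw⟩ := hstep v hv
      have hw' : φ w ∈ V := by
        rcases hw with rfl | rfl | rfl | rfl
        · rw [map_one]; exact one_mem V
        · rw [hφr]; exact hr
        · rw [hφs]; exact mul_mem hs hr
        · rw [hmv, hφs, hφr]; exact mul_mem hr (mul_mem hs hr)
      have hu : φ (φ v) = v * (w * φ w) := by rw [hvw, hmv, hvw, mul_assoc]
      rw [hu, hmv, hmv, hu, hmv, hmv, h2 w hw, mul_assoc,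
        hV2 _ (mul_mem (hwV w hw) hw'), mul_one]
    · -- `r → s → rs → r`
      have hφr : φ r = s := by
        rw [hφ, f, hmul, har, e, hVc s hs r hr, ← mul_assoc, hV2 r hr, one_mul]
      have hφs : φ s = r * s := by rw [hφ, hbs, e, hVc r hr s hs]
      have hφrs : φ (r * s) = r := by
        rw [hmv, hφr, hφs, hVc r hr s hs, ← mul_assoc, hV2 s hs, one_mul]
      refine Or.inl fun v hv => ?_
      obtain ⟨w, hw, hvw⟩ := hstep v hv
      have hprod : w * φ w * φ (φ w) = 1 := by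
        rcases hw with h | h | h | h <;> rw [h]
        · simp
        · rw [hφr, hφs, hV2 _ hrs]
        · rw [hφs, hφrs, hVc s hs _ hrs, mul_assoc r s s, hV2 s hs, mul_one, hV2 r hr]
        · rw [hφrs, hφr, mul_assoc (r * s) r s, hV2 _ hrs]
      calc φ (φ (φ v)) = v * (w * φ w * φ (φ w)) := by rw [hvw, hmv, hvw, hmv, hmv, hvw]; group
        _ = v := by rw [hprod, mul_one]

/-- The theorem of Sims in local form. -/
theorem sims [IsSimpleGroup H] (hna : ¬ IsMulCommutative H) (G : Subgroup H) (hG : IsCoatom G)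
    (hchar : centralizer (pCore 2 G : Set G) ≤ pCore 2 G) (S : Sylow 2 G)
    (hN : ¬ normalizer (((S : Subgroup G).map G.subtype : Subgroup H) : Set H) ≤ G) (q : ℕ)
    (hq : q.Prime) (hD : Nonempty (G ⧸ pCore 2 G ≃* DihedralGroup q)) :
    Nonempty (G ≃* Equiv.Perm (Fin 4)) ∨
      Nonempty (G ≃* Equiv.Perm (Fin 4) × Multiplicative (ZMod 2)) := by
  haveI : Fact (Nat.Prime 2) := ⟨Nat.prime_two⟩
  haveI : Fact q.Prime := ⟨hq⟩
  obtain ⟨ε⟩ := hD
  set Q₀ := pCore 2 G with hQ₀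
  haveI hQn : Q₀.Normal := (CfsgLib.Solvable.pCore_spec 2).1
  have hQp : IsPGroup 2 Q₀ := CfsgLib.Solvable.isPGroup_pCore 2
  have hQS : Q₀ ≤ (S : Subgroup G) := CfsgLib.Fitting.pCore_le_sylow S
  let π : G →* DihedralGroup q := ε.toMonoidHom.comp (QuotientGroup.mk' Q₀)
  have hπ : Function.Surjective π := ε.surjective.comp (QuotientGroup.mk'_surjective Q₀)
  have hker : ∀ x : G, π x = 1 ↔ x ∈ Q₀ := fun x => by
    show ε (QuotientGroup.mk' Q₀ x) = 1 ↔ _
    rw [MulEquiv.map_eq_one_iff]; exact QuotientGroup.eq_one_iff x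
  have hcardG : Nat.card G = 2 * q * Nat.card Q₀ := by
    rw [card_eq_card_quotient_mul_card_subgroup Q₀, Nat.card_congr ε.toEquiv, DihedralGroup.nat_card]
  have hq2 : q ≠ 2 := fun h => by
    subst h
    have hp : IsPGroup 2 G := by
      obtain ⟨k, hk⟩ := IsPGroup.iff_card.1 hQp
      exact IsPGroup.of_card (n := k + 2) (by rw [hcardG, hk, pow_add]; ring)
    have htop : Q₀ = ⊤ := eq_top_iff.2 (CfsgLib.Solvable.le_pCore 2 inferInstance
      (hp.to_subgroup ⊤))
    rw [htop, Subgroup.card_top] at hcardG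
    have := Nat.card_pos (α := G)
    omega
  set P := (S : Subgroup G).map G.subtype with hP
  set Q := Q₀.map G.subtype with hQ
  have hPG : P ≤ G := map_subtype_le _
  have hPp : IsPGroup 2 P := S.2.map _
  have hQP : Q ≤ P := map_mono hQS
  have hQmem : ∀ x : G, (x : H) ∈ Q ↔ x ∈ Q₀ := fun x => mem_map_iff_mem G.subtype_injective
  have hPmem : ∀ x : G, (x : H) ∈ P ↔ x ∈ (S : Subgroup G) := fun x => mem_map_iff_mem G.subtype_injective
  have hGQ : ∀ g ∈ G, ∀ x ∈ Q, g * x * g⁻¹ ∈ Q := by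
    rintro g hg _ ⟨x, hx, rfl⟩
    exact (hQmem (⟨g, hg⟩ * x * ⟨g, hg⟩⁻¹)).2 (hQn.conj_mem x hx _)
  obtain ⟨y, hy, hyG⟩ := SetLike.not_le_iff_exists.1 hN
  -- nothing in `P` is normalized by `G` and `y`
  have hbot : ∀ L : Subgroup H, L ≤ P → G ≤ normalizer (L : Set H) → y ∈ normalizer (L : Set H) →
      L = ⊥ := by
    intro L hLP hGL hyL
    have htop : normalizer (L : Set H) = ⊤ := hG.2 _ (lt_of_le_of_ne hGL fun h => hyG (h ▸ hyL))
    refine ((normalizer_eq_top_iff.1 htop).eq_bot_or_eq_top).resolve_right fun h => hG.1 ?_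
    exact top_le_iff.1 (h ▸ hLP.trans hPG)
  have hPne : P ≠ ⊥ := fun h => by
    have hS : (S : Subgroup G) = ⊥ := (map_eq_bot_iff_of_injective _ G.subtype_injective).1 h
    have h2 := S.not_dvd_index
    rw [hS, index_bot, hcardG, mul_assoc] at h2
    exact h2 (dvd_mul_right 2 _)
  have hQc : ∀ z ∈ P, (∀ p ∈ P, z * p = p * z) → z ∈ Q := fun z hz hc =>
    (hQmem ⟨z, hPG hz⟩).2 (hchar (mem_centralizer_iff.2 fun x hx =>
      Subtype.ext (hc x ((hPmem x).2 (hQS hx))).symm))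
  set Z₀ := omegaOne 2 (P ⊓ centralizer (P : Set H)) with hZ₀
  have hZP : Z₀ ≤ P := (CfsgLib.Thompson.omegaOne_le _).trans inf_le_left
  have hZc : ∀ z ∈ Z₀, ∀ p ∈ P, z * p = p * z := fun z hz p hp =>
    (mem_centralizer_iff.1 (CfsgLib.Thompson.omegaOne_le _ hz).2 p hp).symm
  have hyP : ∀ g ∈ normalizer (P : Set H), ∀ x ∈ Z₀, g * x * g⁻¹ ∈ Z₀ := by
    intro g hg
    suffices Z₀ ≤ Z₀.comap (MulAut.conj g).toMonoidHom from fun x hx => this hx
    refine (closure_le _).2 ?_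
    rintro x ⟨⟨hx, hxc⟩, hx2⟩
    refine subset_closure ⟨⟨(mem_normalizer_iff.1 hg x).1 hx, mem_centralizer_iff.2 fun p hp => ?_⟩, ?_⟩
    · have h := mem_centralizer_iff.1 hxc (g⁻¹ * p * g) (by
        have := (mem_normalizer_iff.1 (inv_mem hg) p).1 hp
        rwa [inv_inv] at this)
      calc p * (g * x * g⁻¹) = g * (g⁻¹ * p * g * x) * g⁻¹ := by group
        _ = g * x * g⁻¹ * p := by rw [h]; group
    · show (g * x * g⁻¹) ^ 2 = 1
      rw [conj_pow, hx2]; group
  have hZne : Z₀ ≠ ⊥ := fun h => by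
    haveI : Nontrivial P := (nontrivial_iff_ne_bot _).2 hPne
    haveI := hPp.center_nontrivial
    obtain ⟨j, hj⟩ := IsPGroup.iff_card.1 (hPp.to_subgroup (center P))
    have h2d : 2 ∣ Nat.card (center P) := hj ▸ dvd_pow_self 2 fun h0 => by
      have := Finite.one_lt_card (α := center P)
      rw [hj, h0, pow_zero] at this
      omega
    obtain ⟨z, hz⟩ := exists_prime_orderOf_dvd_card' 2 h2d
    have hmem : ((z : P) : H) ∈ Z₀ := CfsgLib.Thompson.mem_omegaOne
      ⟨(z : P).2, mem_centralizer_iff.2 fun p hp => congrArg Subtype.val (mem_center_iff.1 z.2 ⟨p, hp⟩)⟩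
      (congrArg (fun u : center P => ((u : P) : H)) (hz ▸ pow_orderOf_eq_one z : z ^ 2 = 1))
    rw [h, mem_bot] at hmem
    have : z = 1 := Subtype.ext (Subtype.ext hmem)
    rw [this, orderOf_one] at hz
    omega
  have hnc : ¬ G ≤ centralizer (Z₀ : Set H) := fun hle => hZne (hbot Z₀ hZP
    (hle.trans (centralizer_le_normalizer _))
    (CfsgLib.LocalB.mem_normalizer_of_conj_le (hyP y hy)))
  -- the module
  set V := closure {u : H | ∃ g ∈ G, ∃ z ∈ Z₀, u = g * z * g⁻¹} with hV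
  have hVQ : V ≤ Q := (closure_le _).2 (by
    rintro _ ⟨g, hg, z, hz, rfl⟩
    exact hGQ g hg z (hQc z (hZP hz) (hZc z hz)))
  have hVcQ : ∀ v ∈ V, ∀ x ∈ Q, v * x = x * v := by
    have : V ≤ centralizer (Q : Set H) := (closure_le _).2 (by
      rintro _ ⟨g, hg, z, hz, rfl⟩
      refine mem_centralizer_iff.2 fun x hx => ?_
      have h := hZc z hz _ (hQP (hGQ g⁻¹ (inv_mem hg) x hx))
      calc x * (g * z * g⁻¹) = g * (g⁻¹ * x * g⁻¹⁻¹ * z) * g⁻¹ := by group
        _ = g * z * g⁻¹ * x := by rw [← h]; group)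
    exact fun v hv x hx => (mem_centralizer_iff.1 (this hv) x hx).symm
  have hVc : ∀ u ∈ V, ∀ v ∈ V, u * v = v * u := fun u hu v hv => hVcQ u hu v (hVQ hv)
  have hV2 : ∀ v ∈ V, v * v = 1 := by
    intro v hv
    induction hv using closure_induction with
    | mem x hx =>
      obtain ⟨g, -, z, hz, rfl⟩ := hx
      have hz2 : z * z = 1 := by
        rw [← pow_two]
        exact (CfsgLib.Thompson.elab_omegaOne (p := 2) (H := P ⊓ centralizer (P : Set H))
          fun a ha b hb => (mem_centralizer_iff.1 hb.2 a ha.1)).2 z hz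
      rw [show g * z * g⁻¹ * (g * z * g⁻¹) = g * (z * z) * g⁻¹ by group, hz2]; group
    | one => exact one_mul 1
    | mul x z hx hz hx' hz' =>
      calc x * z * (x * z) = x * (z * x) * z := by group
        _ = x * x * (z * z) := by rw [← hVc x hx z hz]; group
        _ = 1 := by rw [hx', hz', one_mul]
    | inv x hx hx' => rw [← mul_inv_rev, hx', inv_one]
  have hVG : ∀ g ∈ G, ∀ v ∈ V, g * v * g⁻¹ ∈ V := by
    intro g hg
    suffices V ≤ V.comap (MulAut.conj g).toMonoidHom from fun v hv => this hv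
    refine (closure_le _).2 ?_
    rintro _ ⟨g', hg', z, hz, rfl⟩
    refine subset_closure ⟨g * g', mul_mem hg hg', z, hz, ?_⟩
    show g * (g' * z * g'⁻¹) * g⁻¹ = _
    group
  -- nothing outside `Q` centralizes the module
  have hfaith : ∀ u : G, (∀ v ∈ V, (u : H) * v = v * u) → u ∈ Q₀ := by
    intro u hu
    by_contra hQu
    refine hnc fun g hg => mem_centralizer_iff.2 fun z hz => ?_
    have hzV : z ∈ V := subset_closure ⟨1, one_mem G, z, hz, by group⟩
    set C : Subgroup G := (centralizer (V : Set H)).subgroupOf G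
    haveI : C.Normal := ⟨fun c hc k => mem_centralizer_iff.2 fun v hv => by
      have h : (k : H)⁻¹ * v * (k : H)⁻¹⁻¹ * (c : H) = (c : H) * ((k : H)⁻¹ * v * (k : H)⁻¹⁻¹) :=
        mem_centralizer_iff.1 hc _ (hVG _ (inv_mem k.2) v hv)
      show v * ((k : H) * c * (k : H)⁻¹) = (k : H) * c * (k : H)⁻¹ * v
      calc v * ((k : H) * c * (k : H)⁻¹) = k * ((k : H)⁻¹ * v * (k : H)⁻¹⁻¹ * c) * (k : H)⁻¹ := by group
        _ = (k : H) * c * (k : H)⁻¹ * v := by rw [h]; group⟩
    obtain ⟨t, htS, htQ⟩ : ∃ t ∈ (S : Subgroup G), t ∉ Q₀ := by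
      by_contra h
      push Not at h
      have h2 := Subgroup.index_dvd_of_le h
      rw [index_eq_card, Nat.card_congr ε.toEquiv, DihedralGroup.nat_card] at h2
      exact S.not_dvd_index ((dvd_mul_right 2 q).trans h2)
    set L : Subgroup G := (S : Subgroup G) ⊔ C
    have hrot : ∀ k : ZMod q, DihedralGroup.r k ∈ L.map π := by
      obtain ⟨k, hk, hkm⟩ : ∃ k : ZMod q, k ≠ 0 ∧ DihedralGroup.r k ∈ C.map π := by
        have hm : π u ∈ C.map π := mem_map_of_mem π (mem_centralizer_iff.2 fun v hv => (hu v hv).symm)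
        have hne : π u ≠ 1 := fun h => hQu ((hker u).1 h)
        rcases hu' : π u with k | j
        · exact ⟨k, fun h => hne (by rw [hu', h]; rfl), hu' ▸ hm⟩
        · refine ⟨2 * 1, rot_ne hq2 one_ne_zero, ?_⟩
          haveI : (C.map π).Normal := Normal.map inferInstance π hπ
          have h1 := Normal.conj_mem inferInstance _ (hu' ▸ hm) (DihedralGroup.r (1 : ZMod q))
          have h2 := mul_mem h1 (hu' ▸ hm)
          rw [DihedralGroup.r_mul_sr, DihedralGroup.inv_r, DihedralGroup.sr_mul_r,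
            DihedralGroup.sr_mul_sr] at h2
          convert h2 using 2
          ring
      intro j
      obtain ⟨m, hm⟩ := ZMod.intCast_surjective (j * k⁻¹)
      have h := zpow_mem (map_mono (le_sup_right : C ≤ L) hkm) m
      rwa [DihedralGroup.r_zpow, hm, mul_comm k, inv_mul_cancel_right₀ hk] at h
    have htop : L = ⊤ := by
      refine eq_top_iff.2 fun x _ => ?_
      obtain ⟨i, hi⟩ : ∃ i, π t = DihedralGroup.sr i := by
        rcases hπt : π t with k | i
        · exfalso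
          obtain ⟨j, hj⟩ := IsPGroup.iff_orderOf.1 S.2 ⟨t, htS⟩
          rw [Subgroup.orderOf_mk] at hj
          have h1 : orderOf (π t) ∣ 2 ^ j := hj ▸ orderOf_map_dvd π t
          have h2 : orderOf (π t) ∣ q := orderOf_dvd_of_pow_eq_one (by
            rw [hπt, DihedralGroup.r_pow, DihedralGroup.one_def, ZMod.natCast_self, mul_zero])
          exact htQ ((hker t).1 (orderOf_eq_one_iff.1 (Nat.eq_one_of_dvd_coprimes
            (((Nat.coprime_primes Nat.prime_two hq).2 hq2.symm).pow_left j) h1 h2)))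
        · exact ⟨i, rfl⟩
      have hall : π x ∈ L.map π := by
        rcases π x with j | j
        · exact hrot j
        · have h := mul_mem (hi ▸ mem_map_of_mem π (mem_sup_left htS) : DihedralGroup.sr i ∈ L.map π)
            (hrot (j - i))
          rwa [DihedralGroup.sr_mul_r, add_sub_cancel] at h
      obtain ⟨l, hl, hlx⟩ := hall
      have : l⁻¹ * x ∈ Q₀ := (hker _).1 (by rw [map_mul, map_inv, hlx, inv_mul_cancel])
      simpa using mul_mem hl (mem_sup_left (hQS this) : l⁻¹ * x ∈ L)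
    have hle : L ≤ (centralizer {z}).subgroupOf G := _root_.sup_le
      (fun x hx => mem_centralizer_singleton_iff.2 (hZc z hz x ((hPmem x).2 hx)).symm)
      fun x hx => mem_centralizer_singleton_iff.2 (mem_centralizer_iff.1 hx z hzV).symm
    exact (mem_centralizer_singleton_iff.1 (hle (htop ▸ mem_top (⟨g, hg⟩ : G)))).symm
  -- the offender
  obtain ⟨A, ⟨hAP, hA2⟩, hAmax⟩ := Set.Finite.exists_maximalFor
    (fun A : Subgroup H => Nat.card A) {A | A ≤ P ∧ ∀ a ∈ A, a * a = 1} (Set.toFinite _)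
    ⟨⊥, bot_le, fun a ha => by rw [mem_bot.1 ha, one_mul]⟩
  have hmax : ∀ B : Subgroup H, B ≤ P → (∀ b ∈ B, b * b = 1) → Nat.card B ≤ Nat.card A := by
    intro B hB hB2
    by_contra h
    push Not at h
    exact absurd (hAmax (j := B) ⟨hB, hB2⟩ h.le) (not_le.2 h)
  obtain ⟨A, hAP, hA2, hAmax, hAQ⟩ : ∃ A : Subgroup H, A ≤ P ∧ (∀ a ∈ A, a * a = 1) ∧
      (∀ B : Subgroup H, B ≤ P → (∀ b ∈ B, b * b = 1) → Nat.card B ≤ Nat.card A) ∧ ¬ A ≤ Q := by
    by_contra hno
    push Not at hno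
    set J := sSup {B : Subgroup H | B ≤ P ∧ (∀ b ∈ B, b * b = 1) ∧ Nat.card B = Nat.card A}
    have hJQ : J ≤ Q := sSup_le fun B ⟨h1, h2, h3⟩ => hno B h1 h2 fun C hC hC2 => h3 ▸ hmax C hC hC2
    have hJn : ∀ g : H, (∀ B : Subgroup H, B ≤ P → (∀ b ∈ B, b * b = 1) → Nat.card B = Nat.card A →
        ∀ b ∈ B, g * b * g⁻¹ ∈ P) → g ∈ normalizer (J : Set H) := by
      intro g hg
      refine CfsgLib.LocalB.mem_normalizer_of_conj_le fun x hx => ?_
      suffices J ≤ J.comap (MulAut.conj g).toMonoidHom from this hx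
      refine sSup_le fun B ⟨h1, h2, h3⟩ b hb => ?_
      have hm : B.map (MulAut.conj g).toMonoidHom ≤ P ∧
          (∀ c ∈ B.map (MulAut.conj g).toMonoidHom, c * c = 1) ∧
          Nat.card (B.map (MulAut.conj g).toMonoidHom) = Nat.card A := by
        refine ⟨?_, ?_, ?_⟩
        · rintro _ ⟨c, hc, rfl⟩; exact hg B h1 h2 h3 c hc
        · rintro _ ⟨c, hc, rfl⟩; rw [← map_mul, h2 c hc, map_one]
        · rw [card_map_of_injective (MulAut.conj g).injective, h3]
      exact (le_sSup hm : B.map (MulAut.conj g).toMonoidHom ≤ J) ⟨b, hb, rfl⟩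
    have hJ := hbot J (hJQ.trans hQP)
      (fun g hg => hJn g fun B h1 h2 h3 b hb =>
        hQP (hGQ g hg b (hno B h1 h2 (fun C hC hC2 => h3 ▸ hmax C hC hC2) hb)))
      (hJn y fun B h1 _ _ b hb => (mem_normalizer_iff.1 hy b).1 (h1 hb))
    have hA : A ≤ J := le_sSup ⟨hAP, hA2, rfl⟩
    rw [hJ] at hA
    have h1 := hmax Z₀ hZP fun z hz => hV2 z (subset_closure ⟨1, one_mem G, z, hz, by group⟩)
    rw [le_bot_iff.1 hA, card_bot] at h1
    exact hZne ((Subgroup.card_le_one_iff_eq_bot _).1 h1)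
  obtain ⟨a, haA, haQ⟩ := SetLike.not_le_iff_exists.1 hAQ
  have hAc : ∀ u ∈ A, ∀ v ∈ A, u * v = v * u := fun u hu v hv => by
    have h := hA2 _ (mul_mem hu hv)
    calc u * v = u * (u * v * (u * v)) * v := by rw [h, mul_one]
      _ = u * u * (v * u) * (v * v) := by group
      _ = v * u := by rw [hA2 u hu, hA2 v hv, one_mul, mul_one]
  have hsr : ∀ u : G, (u : H) * u = 1 → u ∉ Q₀ → ∃ i, π u = DihedralGroup.sr i := by
    intro u hu hQu
    rcases h : π u with k | i
    · exfalso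
      refine hQu ((hker u).1 ?_)
      have h2 : π u * π u = 1 := by rw [← map_mul, show u * u = 1 from Subtype.ext hu, map_one]
      rw [h, DihedralGroup.r_mul_r, DihedralGroup.one_def] at h2
      have h3 := DihedralGroup.r.inj h2
      rw [h, DihedralGroup.one_def]
      congr 1
      by_contra hk
      exact rot_ne hq2 hk (by rw [two_mul]; exact h3)
    · exact ⟨i, rfl⟩
  have hprod : ∀ u ∈ A, ∀ v ∈ A, u ∉ Q → v ∉ Q → u * v ∈ Q := by
    intro u hu v hv huQ hvQ
    set u' : G := ⟨u, hPG (hAP hu)⟩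
    set v' : G := ⟨v, hPG (hAP hv)⟩
    obtain ⟨i, hi⟩ := hsr u' (hA2 u hu) fun h => huQ ((hQmem u').2 h)
    obtain ⟨j, hj⟩ := hsr v' (hA2 v hv) fun h => hvQ ((hQmem v').2 h)
    refine (hQmem (u' * v')).2 ((hker _).1 ?_)
    have hc : π u' * π v' = π v' * π u' := by
      rw [← map_mul, ← map_mul]; exact congrArg π (Subtype.ext (hAc u hu v hv))
    rw [hi, hj, DihedralGroup.sr_mul_sr, DihedralGroup.sr_mul_sr] at hc
    rw [map_mul, hi, hj, DihedralGroup.sr_mul_sr, DihedralGroup.one_def]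
    congr 1
    by_contra hne
    have h1 := DihedralGroup.r.inj hc
    exact rot_ne hq2 hne (by rw [two_mul]; nth_rewrite 2 [h1]; abel)
  set B := A ⊓ Q ⊔ V with hB
  have hVn : A ⊓ Q ≤ normalizer (V : Set H) := fun x hx =>
    CfsgLib.LocalB.mem_normalizer_of_conj_le fun v hv => hVG x (hPG (hAP hx.1)) v hv
  have hB2 : ∀ b ∈ B, b * b = 1 := by
    intro b hb
    obtain ⟨x, hx, v, hv, rfl⟩ := (CfsgLib.Solvable.mem_sup_of_le_normalizer hVn).1 hb
    calc x * v * (x * v) = x * (v * x) * v := by group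
      _ = x * x * (v * v) := by rw [hVcQ v hv x hx.2]; group
      _ = 1 := by rw [hA2 x hx.1, hV2 v hv, one_mul]
  have hBcard : Nat.card B ≤ Nat.card A :=
    hAmax B (_root_.sup_le (inf_le_left.trans hAP) (hVQ.trans hQP)) hB2
  have hA2card : Nat.card A ≤ 2 * Nat.card ↥(A ⊓ Q) := by
    have h := relIndex_mul_relIndex ⊥ (A ⊓ Q) A bot_le inf_le_left
    rw [relIndex_bot_left, relIndex_bot_left] at h
    have h2 : (A ⊓ Q).relIndex A = 2 := by
      refine index_eq_two_iff.2 ⟨⟨a, haA⟩, fun b => ?_⟩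
      simp only [mem_subgroupOf, Subgroup.coe_mul, mem_inf]
      by_cases hb : (b : H) ∈ Q
      · exact Or.inr ⟨⟨b.2, hb⟩, fun h => haQ ((Subgroup.mul_mem_cancel_left _ hb).1 h.2)⟩
      · exact Or.inl ⟨⟨mul_mem b.2 haA, hprod _ b.2 _ haA hb haQ⟩, fun h => hb h.2⟩
    rw [h2] at h
    omega
  have hidx : (A ⊓ V).relIndex V ≤ 2 := by
    have h := CfsgLib.Solvable.card_sup_mul_card_inf hVn
    rw [show A ⊓ Q ⊓ V = A ⊓ V by rw [inf_assoc, inf_eq_right.2 hVQ]] at h
    have h2 := relIndex_mul_relIndex ⊥ (A ⊓ V) V bot_le inf_le_right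
    rw [relIndex_bot_left, relIndex_bot_left] at h2
    by_contra hgt
    push Not at hgt
    have hpos := Nat.card_pos (α := ↥(A ⊓ Q))
    have h3 : 3 * Nat.card ↥(A ⊓ V) ≤ Nat.card V := by rw [← h2]; nlinarith
    nlinarith [Nat.card_pos (α := ↥(A ⊓ V))]
  obtain ⟨r, hrV, har, ha⟩ : ∃ r ∈ V, a * r * a⁻¹ = r ∧
      ∀ v ∈ V, a * v * a⁻¹ = v ∨ a * v * a⁻¹ = v * r := by
    have hfix : ∀ v ∈ A ⊓ V, a * v * a⁻¹ = v := fun v hv => by
      rw [hAc a haA v hv.1, mul_inv_cancel_right]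
    have hpos : (A ⊓ V).relIndex V ≠ 0 := fun h0 => by
      have h' := relIndex_mul_relIndex ⊥ (A ⊓ V) V bot_le inf_le_right
      rw [h0, relIndex_bot_left, relIndex_bot_left, mul_zero] at h'
      exact Nat.card_pos.ne h'
    rcases (by omega :
      (A ⊓ V).relIndex V = 1 ∨ (A ⊓ V).relIndex V = 2) with h | h
    · exact ⟨1, one_mem V, by group, fun v hv => Or.inl (hfix v (relIndex_eq_one.1 h hv))⟩
    obtain ⟨⟨v₀, hv₀⟩, hv₀'⟩ := index_eq_two_iff.1 h
    have haG : a ∈ G := hPG (hAP haA)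
    set r := v₀ * (a * v₀ * a⁻¹) with hr
    have hrV : r ∈ V := mul_mem hv₀ (hVG a haG v₀ hv₀)
    refine ⟨r, hrV, ?_, fun v hv => ?_⟩
    · have haa : a * (a * v₀ * a⁻¹) * a⁻¹ = v₀ := by
        calc a * (a * v₀ * a⁻¹) * a⁻¹ = a * a * v₀ * (a * a)⁻¹ := by group
          _ = v₀ := by rw [hA2 a haA, one_mul, inv_one, mul_one]
      calc a * r * a⁻¹ = a * v₀ * a⁻¹ * (a * (a * v₀ * a⁻¹) * a⁻¹) := by rw [hr]; group
        _ = r := by rw [haa, hr, hVc _ (hVG a haG v₀ hv₀) _ hv₀]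
    · by_cases hvA : v ∈ A ⊓ V
      · exact Or.inl (hfix v hvA)
      right
      have hm : v * v₀ ∈ A ⊓ V := by
        rcases hv₀' ⟨v, hv⟩ with ⟨h1, -⟩ | ⟨h1, -⟩
        · exact h1
        · exact absurd h1 hvA
      have e := hfix _ hm
      calc a * v * a⁻¹ = a * (v * v₀) * a⁻¹ * (a * v₀ * a⁻¹)⁻¹ := by group
        _ = v * r := by
          rw [e, inv_eq_of_mul_eq_one_right (hV2 _ (hVG a haG v₀ hv₀)), hr, mul_assoc]
  -- two transvections
  set a' : G := ⟨a, hPG (hAP haA)⟩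
  have ha'Q : a' ∉ Q₀ := fun h => haQ ((hQmem a').2 h)
  obtain ⟨i, hi⟩ := hsr a' (hA2 a haA) ha'Q
  obtain ⟨g, hg⟩ := hπ (DihedralGroup.r 1)
  set b := (g : H) * a * (g : H)⁻¹
  have hπx : π (a' * (g * a' * g⁻¹)) = DihedralGroup.r (-2 * 1) := by
    rw [map_mul, map_mul, map_mul, map_inv, hg, hi, DihedralGroup.inv_r, DihedralGroup.r_mul_sr,
      DihedralGroup.sr_mul_r, DihedralGroup.sr_mul_sr]
    congr 1; ring
  have hbV : ∀ v ∈ V, b * v * b⁻¹ = v ∨ b * v * b⁻¹ = v * ((g : H) * r * (g : H)⁻¹) := by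
    intro v hv
    have hv' := hVG _ (inv_mem g.2) v hv
    have e0 : b * v * b⁻¹ = (g : H) * (a * ((g : H)⁻¹ * v * (g : H)⁻¹⁻¹) * a⁻¹) * (g : H)⁻¹ := by
      simp only [b]; group
    rcases ha _ hv' with e | e <;> rw [e0, e]
    · left; group
    · right; group
  have hbs : b * ((g : H) * r * (g : H)⁻¹) * b⁻¹ = (g : H) * r * (g : H)⁻¹ := by
    calc b * ((g : H) * r * (g : H)⁻¹) * b⁻¹ = (g : H) * (a * r * a⁻¹) * (g : H)⁻¹ := by simp only [b]; group
      _ = _ := by rw [har]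
  have hpow : ∀ n : ℕ, (∀ v ∈ V, (a * b) ^ n * v * ((a * b) ^ n)⁻¹ = v) → q ∣ n := by
    intro n hn
    have h := (hker _).2 (hfaith ((a' * (g * a' * g⁻¹)) ^ n) fun v hv => by
      have := hn v hv
      simp only [Subgroup.coe_pow, Subgroup.coe_mul, InvMemClass.coe_inv]
      exact mul_inv_eq_iff_eq_mul.1 this)
    rw [map_pow, hπx, DihedralGroup.r_pow, DihedralGroup.one_def] at h
    have h' := DihedralGroup.r.inj h
    rw [← ZMod.natCast_eq_zero_iff]
    refine (mul_eq_zero.1 h').resolve_left ?_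
    simp only [neg_mul, neg_eq_zero]
    exact rot_ne hq2 one_ne_zero
  have hq3 : q = 3 := by
    rcases transvection_pair hVc hV2 hrV (hVG _ g.2 r hrV) har hbs ha hbV with h | h
    · exact (Nat.prime_dvd_prime_iff_eq hq Nat.prime_three).1 (hpow 3 h)
    · exact absurd ((Nat.prime_dvd_prime_iff_eq hq Nat.prime_two).1
        (hq.dvd_of_dvd_pow (show q ∣ 2 ^ 2 from hpow 4 h))) hq2
  subst hq3
  -- the amalgam
  obtain ⟨e₃⟩ := CfsgLib.ZJ.nonempty_dihedral_perm_three
  set φ := MulAut.conj y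
  set G' := G.map φ.toMonoidHom with hG'
  have hPy : P.map φ.toMonoidHom = P := mem_normalizer_iff_map_conj_eq.1 hy
  have hne : G' ≠ G := fun h => by
    have hyn : y ∈ normalizer (G : Set H) := mem_normalizer_iff_map_conj_eq.2 h
    have htop := hG.2 _ (lt_of_le_of_ne le_normalizer fun h' => hyG (h' ▸ hyn))
    rcases ((normalizer_eq_top_iff.1 htop).eq_bot_or_eq_top) with h' | h'
    · exact hPne (le_bot_iff.1 (h' ▸ hPG))
    · exact hG.1 h'
  have hcard' : Nat.card G' = Nat.card G := card_map_of_injective φ.injective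
  have hPG' : P ≤ G' := hPy.symm.le.trans (map_mono hPG)
  have hgen : G ⊔ G' = ⊤ := hG.2 _ (lt_of_le_of_ne le_sup_left fun h =>
    hne (eq_of_le_of_card_ge (sup_eq_left.1 h.symm) hcard'.ge))
  have hcardS : Nat.card P = 2 * Nat.card Q₀ := by
    rw [hP, card_map_of_injective G.subtype_injective]
    obtain ⟨k, hk⟩ := IsPGroup.iff_card.1 hQp
    rw [S.card_eq_multiplicity, hcardG, hk, show 2 * 3 * 2 ^ k = 2 ^ (k + 1) * 3 by ring,
      Nat.factorization_mul (by positivity) (by norm_num), Finsupp.add_apply,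
      Nat.Prime.factorization_pow Nat.prime_two, Finsupp.single_eq_same,
      Nat.factorization_eq_zero_of_not_dvd (show ¬ 2 ∣ 3 by norm_num), add_zero, pow_succ']
  have hinf : P = G ⊓ G' := by
    refine le_antisymm (le_inf hPG hPG') ?_
    have h := relIndex_mul_relIndex P (G ⊓ G') G (le_inf hPG hPG') inf_le_left
    have h3 : P.relIndex G = 3 := by
      have h' := relIndex_mul_relIndex ⊥ P G bot_le hPG
      rw [relIndex_bot_left, relIndex_bot_left, hcardS, hcardG] at h'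
      have := Nat.card_pos (α := Q₀)
      nlinarith
    rw [h3] at h
    rcases (Nat.dvd_prime Nat.prime_three).1 (Dvd.intro _ h) with h1 | h1
    · exact relIndex_eq_one.1 h1
    · exfalso
      rw [h1] at h
      exact hne (eq_of_le_of_card_ge ((relIndex_eq_one.1 (by omega : (G ⊓ G').relIndex G = 1)).trans
        inf_le_right) hcard'.le).symm
  -- transport along the isomorphism
  let i : G ≃* G' := equivMapOfInjective G φ.toMonoidHom φ.injective
  have hcore : (pCore 2 G).map i.toMonoidHom = pCore 2 G' := by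
    haveI : ((pCore 2 G).map i.toMonoidHom).Normal := Normal.map hQn _ i.surjective
    haveI : (pCore 2 G').Normal := (CfsgLib.Solvable.pCore_spec 2).1
    refine le_antisymm (CfsgLib.Solvable.le_pCore 2 inferInstance (hQp.map _)) fun x hx => ?_
    refine ⟨i.symm x, CfsgLib.Solvable.le_pCore 2 (Normal.map inferInstance _ i.symm.surjective)
      ((CfsgLib.Solvable.isPGroup_pCore 2).map i.symm.toMonoidHom) ⟨x, hx, rfl⟩, i.apply_symm_apply x⟩
  haveI : (pCore 2 G').Normal := (CfsgLib.Solvable.pCore_spec 2).1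
  have hres := Cfsg.Agent.S2858.result G G' hgen P hinf ?_ ?_ ?_ ?_ ?_
  · rcases hres with ⟨⟨f⟩, -⟩ | ⟨⟨f⟩, -⟩
    · exact Or.inl ⟨f⟩
    · exact Or.inr ⟨f.trans MulEquiv.prodComm⟩
  · intro X hX
    rcases hX with h | h <;> rw [h]
    · rintro x ⟨hx, hxc⟩
      exact (hQmem ⟨x, hx⟩).2 (hchar (mem_centralizer_iff.2 fun u hu => Subtype.ext
        (mem_centralizer_iff.1 hxc _ ⟨u, hu, rfl⟩)))
    · rintro x ⟨⟨u, hu, rfl⟩, hxc⟩
      refine ⟨i ⟨u, hu⟩, hcore.le ⟨⟨u, hu⟩, hchar (mem_centralizer_iff.2 fun w hw => Subtype.ext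
        (φ.injective ?_)), rfl⟩, rfl⟩
      show φ (w * u) = φ (u * w)
      rw [map_mul, map_mul]
      exact mem_centralizer_iff.1 hxc _ ⟨i w, hcore.le ⟨w, hw, rfl⟩, rfl⟩
  · intro X hX
    rcases hX with h | h <;> rw [h]
    · exact ⟨S, (comap_map_eq_self_of_injective G.subtype_injective _).symm⟩
    · have hp : IsPGroup 2 (P.subgroupOf G') := hPp.comap_subtype
      refine ⟨hp.toSylow (fun h2 => ?_), rfl⟩
      have h' := relIndex_mul_relIndex ⊥ P G' bot_le hPG'
      rw [relIndex_bot_left, relIndex_bot_left, hcardS, hcard', hcardG] at h'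
      have h3 : P.relIndex G' = 3 := by
        have := Nat.card_pos (α := Q₀)
        nlinarith
      rw [show (P.subgroupOf G').index = 3 from h3] at h2
      norm_num at h2
  · intro N hN hNP
    exact hbot N hNP (by rw [normalizer_eq_top_iff.2 hN]; exact le_top)
      (by rw [normalizer_eq_top_iff.2 hN]; exact mem_top y)
  · intro X hX
    rcases hX with h | h <;> rw [h]
    · exact ⟨ε.trans e₃⟩
    · exact ⟨((QuotientGroup.congr (pCore 2 G) (pCore 2 G') i hcore).symm.trans ε).trans e₃⟩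
  · intro X hX
    rcases hX with h | h <;> rw [h]
    · exact hnc
    · intro hle
      refine hnc fun x hx => mem_centralizer_iff.2 fun z hz => φ.injective ?_
      rw [map_mul, map_mul]
      exact mem_centralizer_iff.1 (hle ⟨x, hx, rfl⟩) _ (hyP y hy z hz)

end CfsgLib.SimsDihedral
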